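import Mathlib

/-!
Binomial coefficients all of whose prime factors are large: the arithmetic behind the classification of the Hall
subgroups of symmetric and alternating groups.
-/

set_option autoImplicit false

namespace CfsgLib.Perm.Groups.HallSym

/-- If `C(m + l, l)` has no prime factor below the prime `p`, where `2 ≤ l ≤ m < p` and `l + 1 < p`, then
`(l, m, p) = (3, 4, 5)`. -/
theorem binom_coprime_eq {p m l : ℕ} (hp : p.Prime) (hl : 2 ≤ l) (hlm : l ≤ m) (hmp : m < p) (hlp : l + 1 < p)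
    (h : ∀ q, q.Prime → q < p → ¬ q ∣ (m + l).choose l) : l = 3 ∧ m = 4 ∧ p = 5 := by
  obtain ⟨C, hC⟩ : ∃ C, (m + l).choose l = C := ⟨_, rfl⟩
  rw [hC] at h
  have cop : ∀ x, 0 < x → x < p → Nat.Coprime x C := fun x hx0 hxp =>
    Nat.coprime_of_dvd fun q hq hqx hqC => h q hq (lt_of_le_of_lt (Nat.le_of_dvd hx0 hqx) hxp) hqC
  have id1 := Nat.choose_succ_right_eq (m + l) l
  rw [hC, show m + l - l = m by omega] at id1
  have id2 := Nat.choose_succ_right_eq (m + l) (l - 1)
  rw [show l - 1 + 1 = l by omega, hC, show m + l - (l - 1) = m + 1 by omega] at id2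
  have hm1 : m + 1 = p := by
    by_contra hne
    have h1 : m + 1 ∣ C * l := ⟨(m + l).choose (l - 1), by rw [id2]; ring⟩
    have := Nat.le_of_dvd (by omega) ((cop (m + 1) (by omega) (by omega)).dvd_of_dvd_mul_left h1)
    omega
  obtain ⟨t, ht⟩ : l + 1 ∣ m :=
    (cop (l + 1) (by omega) hlp).dvd_of_dvd_mul_left ⟨(m + l).choose (l + 1), by rw [← id1]; ring⟩
  have ht1 : 1 ≤ t := by
    rcases Nat.eq_zero_or_pos t with rfl | h0
    · simp at ht; omega
    · exact h0
  obtain ⟨y, hy⟩ : ∃ y, m = 2 * y := by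
    obtain ⟨y, hy⟩ := hp.odd_of_ne_two (by omega)
    exact ⟨y, by omega⟩
  have cop2 : ∀ x, 0 < x → x < p → Nat.Coprime (2 * x) C := fun x hx0 hxp =>
    (cop 2 (by omega) (by omega)).mul_left (cop x hx0 hxp)
  have id3 := Nat.choose_succ_right_eq (m + l) (l - 2)
  rw [show l - 2 + 1 = l - 1 by omega, show m + l - (l - 2) = m + 2 by omega] at id3
  have h2 : C * (l * (l - 1)) = (m + l).choose (l - 2) * ((m + 2) * (m + 1)) := by
    rw [← mul_assoc C, id2, mul_right_comm, id3]; ring
  have hd : m + 2 ∣ l * (l - 1) := by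
    have hc : Nat.Coprime (m + 2) C := by
      rw [show m + 2 = 2 * (y + 1) by omega]; exact cop2 _ (by omega) (by omega)
    exact hc.dvd_of_dvd_mul_left ⟨(m + 1) * (m + l).choose (l - 2), by rw [h2]; ring⟩
  obtain ⟨k, hk⟩ := hd
  have hk' : (l : ℤ) * ((l : ℤ) - 1) = ((m : ℤ) + 2) * k := by
    have := congrArg (Nat.cast : ℕ → ℤ) hk
    push_cast [Nat.cast_sub (show 1 ≤ l by omega)] at this
    exact this
  have ht' : (m : ℤ) = ((l : ℤ) + 1) * t := by exact_mod_cast ht
  rw [ht'] at hk'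
  obtain ⟨z, hz⟩ : ∃ z : ℤ, 2 * ((t : ℤ) - l + 2) = (((l : ℤ) + 1) * t + 2) * z :=
    ⟨t * k - ((l : ℤ) - 2), by linear_combination (t : ℤ) * hk'⟩
  have ht1' : (1 : ℤ) ≤ t := by exact_mod_cast ht1
  have hl' : (2 : ℤ) ≤ l := by exact_mod_cast hl
  have hz1 : z ≤ 1 := by
    by_contra hh
    nlinarith [show (2 : ℤ) ≤ z by omega]
  have hz2 : -1 ≤ z := by
    by_contra hh
    nlinarith [show z ≤ -2 by omega]
  obtain rfl | rfl | rfl : z = -1 ∨ z = 0 ∨ z = 1 := by omega
  · -- `t = 1`, `l = 9`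
    have hl9 : t = 1 := by
      by_contra hh
      have : (2 : ℤ) ≤ t := by omega
      nlinarith
    subst hl9
    obtain ⟨rfl, rfl⟩ : l = 9 ∧ m = 10 := by omega
    exact absurd (show 2 ∣ C by rw [← hC]; norm_num [Nat.choose_eq_factorial_div_factorial, Nat.factorial])
      (h 2 Nat.prime_two (by omega))
  · have htl : t + 2 = l := by omega
    obtain rfl | rfl | hl4 : l = 2 ∨ l = 3 ∨ 4 ≤ l := by omega
    · omega
    · obtain rfl : t = 1 := by omega
      omega
    exfalso
    have hm2 : l * (l - 1) = m + 2 := by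
      subst ht htl
      rw [show t + 2 - 1 = t + 1 by omega]; ring
    have id4 := Nat.choose_succ_right_eq (m + l) (l - 3)
    rw [show l - 3 + 1 = l - 2 by omega, show m + l - (l - 3) = m + 3 by omega] at id4
    have id5 := Nat.choose_succ_right_eq (m + l) (l - 4)
    rw [show l - 4 + 1 = l - 3 by omega, show m + l - (l - 4) = m + 4 by omega] at id5
    have h4 : C * ((m + 2) * ((l - 2) * (l - 3))) =
        (m + l).choose (l - 4) * ((m + 1) * (m + 2) * (m + 3) * (m + 4)) := by
      calc C * ((m + 2) * ((l - 2) * (l - 3))) = C * (l * (l - 1)) * ((l - 2) * (l - 3)) := by rw [hm2]; ring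
        _ = (m + l).choose (l - 2) * (l - 2) * ((m + 2) * (m + 1) * (l - 3)) := by rw [h2]; ring
        _ = (m + l).choose (l - 3) * (l - 3) * ((m + 1) * (m + 2) * (m + 3)) := by rw [id4]; ring
        _ = _ := by rw [id5]; ring
    have hc : Nat.Coprime ((m + 2) * (m + 4)) C := by
      refine Nat.Coprime.mul_left ?_ ?_
      · rw [show m + 2 = 2 * (y + 1) by omega]; exact cop2 _ (by omega) (by omega)
      · rw [show m + 4 = 2 * (y + 2) by omega]; exact cop2 _ (by omega) (by omega)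
    have hd4 : (m + 2) * (m + 4) ∣ (m + 2) * ((l - 2) * (l - 3)) :=
      hc.dvd_of_dvd_mul_left ⟨(m + 1) * (m + 3) * (m + l).choose (l - 4), by rw [h4]; ring⟩
    have hd5 := Nat.le_of_dvd (Nat.mul_pos (by omega) (by omega))
      (Nat.dvd_of_mul_dvd_mul_left (by omega) hd4)
    have : (l - 2) * (l - 3) ≤ l * (l - 1) := Nat.mul_le_mul (by omega) (by omega)
    omega
  · have : ((t : ℤ) + 2) * ((l : ℤ) - 1) = 0 := by linear_combination -hz
    rcases mul_eq_zero.1 this with h0 | h0 <;> omega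

end CfsgLib.Perm.Groups.HallSym
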