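import Mathlib
import Cfsg.Prelude.Def_HallClasses

/-!
Common setting for Hall subgroups of symmetric and alternating groups: `IsNearHall π H` says that `H` is a
`π`-subgroup of the symmetric group whose intersection with the alternating group is a Hall `π`-subgroup there.
Label stabilisers and their orders.
-/

set_option autoImplicit false
set_option linter.unusedSectionVars false

namespace CfsgLib.Perm.Groups.HallSym

open Equiv Equiv.Perm

variable {α : Type*} [Fintype α] [DecidableEq α]

/-- `H` is a `π`-subgroup and no prime of `π` divides `[A : H ∩ A]`. -/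
structure IsNearHall (π : Set ℕ) (H : Subgroup (Perm α)) : Prop where
  pi : ∀ q : ℕ, q.Prime → q ∣ Nat.card H → q ∈ π
  hall : ∀ q : ℕ, q.Prime → q ∈ π → ¬ q ∣ H.relIndex (alternatingGroup α)

theorem alt_relIndex_of_odd [Nontrivial α] {K : Subgroup (Perm α)} {σ : Perm α} (hσK : σ ∈ K)
    (hσ : Perm.sign σ = -1) : K.relIndex (alternatingGroup α) = K.index := by
  have h2 : (alternatingGroup α).index = 2 := alternatingGroup.index_eq_two
  have h1 : (alternatingGroup α).relIndex K = 2 := by
    have hd : (alternatingGroup α).relIndex K ∣ 2 := h2 ▸ Subgroup.relIndex_dvd_index_of_normal (alternatingGroup α) K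
    rcases (Nat.dvd_prime Nat.prime_two).1 hd with h | h
    · have := (Subgroup.relIndex_eq_one.1 h) hσK
      rw [Equiv.Perm.mem_alternatingGroup, hσ] at this
      exact absurd this (by decide)
    · exact h
  have e1 := Subgroup.relIndex_mul_index (inf_le_right : K ⊓ alternatingGroup α ≤ alternatingGroup α)
  have e2 := Subgroup.relIndex_mul_index (inf_le_left : K ⊓ alternatingGroup α ≤ K)
  rw [Subgroup.inf_relIndex_right, h2] at e1
  rw [inf_comm, Subgroup.inf_relIndex_right, h1] at e2
  rw [inf_comm] at e2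
  omega

theorem isNearHall_of_hall [Nontrivial α] {π : Set ℕ} {H : Subgroup (Perm α)} (hH : Cfsg.IsPiHall π H) :
    IsNearHall π H := by
  refine ⟨hH.1, fun q hq hqπ hd => hH.2 q hq hqπ ?_⟩
  by_cases hodd : ∃ σ ∈ H, Perm.sign σ = -1
  · obtain ⟨σ, hσ, hs⟩ := hodd
    rwa [← alt_relIndex_of_odd hσ hs]
  · have hle : H ≤ alternatingGroup α := fun σ hσ => by
      rw [Equiv.Perm.mem_alternatingGroup]
      rcases Int.units_eq_one_or (Perm.sign σ) with h | h
      · exact h
      · exact absurd ⟨σ, hσ, h⟩ hodd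
    rw [← Subgroup.relIndex_mul_index hle]
    exact hd.mul_right _

theorem isNearHall_map_subtype {π : Set ℕ} {H : Subgroup (alternatingGroup α)} (hH : Cfsg.IsPiHall π H) :
    IsNearHall π (H.map (alternatingGroup α).subtype) := by
  constructor
  · intro q hq hd
    rw [Subgroup.card_map_of_injective (alternatingGroup α).subtype_injective] at hd
    exact hH.1 q hq hd
  · intro q hq hqπ
    rw [Subgroup.relIndex, Subgroup.subgroupOf, Subgroup.comap_map_eq_self_of_injective
      (alternatingGroup α).subtype_injective]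
    exact hH.2 q hq hqπ

/-- Every `q`-subgroup of the alternating group, `q ∈ π`, has a conjugate inside `H`. -/
theorem IsNearHall.exists_conj_mem {π : Set ℕ} {H : Subgroup (Perm α)} (hH : IsNearHall π H) {q : ℕ}
    (hq : q.Prime) (hqπ : q ∈ π) {E : Subgroup (Perm α)} (hEA : E ≤ alternatingGroup α) (hE : IsPGroup q E) :
    ∃ g : Perm α, ∀ x ∈ E, g * x * g⁻¹ ∈ H := by
  haveI := Fact.mk hq
  obtain ⟨A, hA⟩ : ∃ A, A = alternatingGroup α := ⟨_, rfl⟩
  rw [← hA] at hEA
  have hnd : ¬ q ∣ (H.subgroupOf A).index := by rw [hA]; exact hH.hall q hq hqπ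
  obtain ⟨P⟩ : Nonempty (Sylow q (H.subgroupOf A)) := inferInstance
  obtain ⟨S, hS⟩ := (P.isPGroup'.map (H.subgroupOf A).subtype).exists_le_sylow
  have hcard : Nat.card (S : Subgroup A) ≤ Nat.card ((P : Subgroup _).map (H.subgroupOf A).subtype) := by
    rw [Subgroup.card_map_of_injective (H.subgroupOf A).subtype_injective, P.card_eq_multiplicity,
      S.card_eq_multiplicity, ← (H.subgroupOf A).index_mul_card,
      Nat.factorization_mul Subgroup.index_ne_zero_of_finite Nat.card_pos.ne', Finsupp.add_apply,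
      Nat.factorization_eq_zero_of_not_dvd hnd, zero_add]
  have hSH : (S : Subgroup A) ≤ H.subgroupOf A := by
    rw [← Subgroup.eq_of_le_of_card_ge hS hcard]
    exact Subgroup.map_subtype_le _
  obtain ⟨T, hT⟩ := (hE.comap_of_injective A.subtype A.subtype_injective).exists_le_sylow
  obtain ⟨g, hg⟩ := MulAction.exists_smul_eq A T S
  refine ⟨(g : Perm α), fun x hx => ?_⟩
  have hxT : (⟨x, hEA hx⟩ : A) ∈ (T : Subgroup A) := hT hx
  have hgx : g * ⟨x, hEA hx⟩ * g⁻¹ ∈ (S : Subgroup A) := by
    rw [← hg, Sylow.coe_subgroup_smul]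
    exact ⟨⟨x, hEA hx⟩, hxT, rfl⟩
  have := Subgroup.mem_subgroupOf.1 (hSH hgx)
  simpa using this

/-- A subgroup over `H` containing an odd permutation has index prime to `π`; hence so is every cofactor in
`n! = D * N` with `|K| ∣ D`. -/
theorem IsNearHall.not_dvd [Nontrivial α] {π : Set ℕ} {H : Subgroup (Perm α)} (hH : IsNearHall π H)
    {K : Subgroup (Perm α)} (hHK : H ≤ K) {σ : Perm α} (hσK : σ ∈ K) (hσ : Perm.sign σ = -1) {D N : ℕ}
    (hD : Nat.card K ∣ D) (hN : D * N = (Fintype.card α).factorial) {q : ℕ} (hq : q.Prime) (hqπ : q ∈ π) :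
    ¬ q ∣ N := by
  obtain ⟨t, rfl⟩ := hD
  intro hd
  have he := K.index_mul_card
  rw [Nat.card_perm, Nat.card_eq_fintype_card (α := α), ← hN, mul_assoc, mul_comm (K.index)] at he
  have he' : K.index = t * N := Nat.eq_of_mul_eq_mul_left Nat.card_pos he
  apply hH.hall q hq hqπ
  refine dvd_trans ?_ (Subgroup.relIndex_dvd_of_le_left (alternatingGroup α) hHK)
  rw [alt_relIndex_of_odd hσK hσ, he']
  exact hd.mul_left t

variable {ι : Type*}

/-- The permutations preserving a labelling. -/
def labStab (f : α → ι) : Subgroup (Perm α) where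
  carrier := {g | ∀ x, f (g x) = f x}
  one_mem' := fun _ => rfl
  mul_mem' := fun {g h} hg hh x => (hg (h x)).trans (hh x)
  inv_mem' := fun {g} hg x => by
    show f (g⁻¹ x) = f x
    rw [← hg (g⁻¹ x), ← Perm.mul_apply, mul_inv_cancel, Perm.one_apply]

theorem mem_labStab {f : α → ι} {g : Perm α} : g ∈ labStab f ↔ ∀ x, f (g x) = f x := Iff.rfl

theorem card_labStab [Fintype ι] [DecidableEq ι] (f : α → ι) :
    Nat.card (labStab f) = ∏ i, (Finset.univ.filter (fun x => f x = i)).card.factorial := by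
  have e : Nat.card (labStab f) = Nat.card {g : Perm α // f ∘ g = f} :=
    Nat.card_congr (Equiv.subtypeEquivRight fun g => by rw [mem_labStab, funext_iff]; rfl)
  rw [e, Nat.card_eq_fintype_card, DomMulAct.stabilizer_card f]
  simp only [Fintype.card_subtype]

theorem swap_mem_labStab {f : α → ι} {a b : α} (h : f a = f b) : Equiv.swap a b ∈ labStab f := fun x => by
  rcases eq_or_ne x a with rfl | hxa
  · rw [Equiv.swap_apply_left, h]
  rcases eq_or_ne x b with rfl | hxb
  · rw [Equiv.swap_apply_right, h]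
  rw [Equiv.swap_apply_of_ne_of_ne hxa hxb]

variable {Γ : Type*} [Group Γ]

/-- The permutations permuting the labels as some element of `Γ` does. -/
def labPermStab (f : α → ι) (φ : Γ →* Perm ι) : Subgroup (Perm α) where
  carrier := {g | ∃ s : Γ, ∀ x, f (g x) = φ s (f x)}
  one_mem' := ⟨1, fun x => by simp⟩
  mul_mem' := fun {g h} ⟨s, hs⟩ ⟨t, ht⟩ => ⟨s * t, fun x => by
    show f (g (h x)) = _
    rw [hs, ht, map_mul, Perm.mul_apply]⟩
  inv_mem' := fun {g} ⟨s, hs⟩ => ⟨s⁻¹, fun x => by
    have h := hs (g⁻¹ x)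
    rw [← Perm.mul_apply, mul_inv_cancel, Perm.one_apply] at h
    show f (g⁻¹ x) = _
    rw [h, map_inv, ← Perm.mul_apply, inv_mul_cancel, Perm.one_apply]⟩

theorem labStab_le_labPermStab (f : α → ι) (φ : Γ →* Perm ι) : labStab f ≤ labPermStab f φ :=
  fun g hg => ⟨1, fun x => by rw [hg x, map_one, Perm.one_apply]⟩

theorem card_labPermStab_dvd [Finite Γ] (f : α → ι) (φ : Γ →* Perm ι) :
    Nat.card (labPermStab f φ) ∣ Nat.card Γ * Nat.card (labStab f) := by
  let P : Subgroup (Perm α × Γ) :=
    { carrier := {y | ∀ x, f (y.1 x) = φ y.2 (f x)}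
      one_mem' := fun x => by simp
      mul_mem' := fun {y z} hy hz x => by
        show f (y.1 (z.1 x)) = φ (y.2 * z.2) (f x)
        rw [hy, hz, map_mul, Perm.mul_apply]
      inv_mem' := fun {y} hy x => by
        have h := hy (y.1⁻¹ x)
        rw [← Perm.mul_apply, mul_inv_cancel, Perm.one_apply] at h
        show f (y.1⁻¹ x) = φ y.2⁻¹ (f x)
        rw [h, map_inv, ← Perm.mul_apply, inv_mul_cancel, Perm.one_apply] }
  have h1 : labPermStab f φ = P.map (MonoidHom.fst (Perm α) Γ) := by
    ext g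
    exact ⟨fun ⟨s, hs⟩ => ⟨(g, s), hs, rfl⟩, fun ⟨y, hy, hg⟩ => ⟨y.2, hg ▸ hy⟩⟩
  refine (h1 ▸ P.card_map_dvd (MonoidHom.fst (Perm α) Γ)).trans ?_
  let ψ : P →* Γ := (MonoidHom.snd (Perm α) Γ).comp P.subtype
  have hk : Nat.card ψ.ker = Nat.card (labStab f) := by
    refine Nat.card_congr
      { toFun := fun y => ⟨y.1.1.1, fun x => by
          have h := y.1.2 x
          rw [show y.1.1.2 = 1 from y.2, map_one, Perm.one_apply] at h
          exact h⟩
        invFun := fun g => ⟨⟨(g.1, 1), fun x => by simp [g.2 x]⟩, rfl⟩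
        left_inv := fun y => Subtype.ext (Subtype.ext (Prod.ext rfl (Eq.symm y.2)))
        right_inv := fun g => rfl }
  rw [← ψ.ker.index_mul_card, hk, Subgroup.index_ker]
  exact mul_dvd_mul_right (Subgroup.card_subgroup_dvd_card _) _

end CfsgLib.Perm.Groups.HallSym
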