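import Cfsg.Agent.Lib.Perm.Groups.HallSym.Three

/-!
The classes of the relation "equal or moved by a common three-cycle of `H`": the alternating group on each class
lies in `H`, prime cycles of `H` stay inside classes, hence `π` cuts out an initial segment of the primes.
-/

set_option autoImplicit false
set_option linter.unusedSectionVars false

namespace CfsgLib.Perm.Groups.HallSym

open Equiv Equiv.Perm

variable {α : Type*} [Fintype α] [DecidableEq α]

/-- The three-cycle `a ↦ b ↦ u ↦ a`. -/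
def cyc (a b u : α) : Perm α := Equiv.swap a b * Equiv.swap b u

theorem cyc_apply_left {a b u : α} (hab : a ≠ b) (hau : a ≠ u) : cyc a b u a = b := by
  rw [cyc, Perm.mul_apply, Equiv.swap_apply_of_ne_of_ne hab hau, Equiv.swap_apply_left]

theorem cyc_apply_mid {a b u : α} (hau : a ≠ u) (hbu : b ≠ u) : cyc a b u b = u := by
  rw [cyc, Perm.mul_apply, Equiv.swap_apply_left, Equiv.swap_apply_of_ne_of_ne hau.symm hbu.symm]

theorem cyc_apply_right (a b u : α) : cyc a b u u = a := by
  rw [cyc, Perm.mul_apply, Equiv.swap_apply_right, Equiv.swap_apply_right]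

theorem cyc_apply_other {a b u x : α} (ha : x ≠ a) (hb : x ≠ b) (hu : x ≠ u) : cyc a b u x = x := by
  rw [cyc, Perm.mul_apply, Equiv.swap_apply_of_ne_of_ne hb hu, Equiv.swap_apply_of_ne_of_ne ha hb]

theorem cyc_conj (g : Perm α) (a b u : α) : g * cyc a b u * g⁻¹ = cyc (g a) (g b) (g u) := by
  rw [cyc, cyc, Equiv.swap_apply_apply, Equiv.swap_apply_apply]
  simp [mul_assoc]

theorem cyc_mul (a b u x : α) : cyc a b u * cyc u b x = cyc a b x := by
  rw [cyc, cyc, cyc, Equiv.swap_comm u b, mul_assoc, ← mul_assoc (Equiv.swap b u), Equiv.swap_mul_self, one_mul]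

theorem three_eq_cyc {g : Perm α} (hg : g.IsThreeCycle) {a : α} (ha : g a ≠ a) :
    g = cyc a (g a) (g (g a)) ∧ g a ≠ g (g a) ∧ a ≠ g (g a) := by
  have h3 : g (g (g a)) = a := by
    have h := congrArg (fun h : Perm α => h a) (show g ^ 3 = 1 by rw [← hg.orderOf, pow_orderOf_eq_one])
    simpa [pow_succ] using h
  have h1 : g a ≠ g (g a) := fun e => ha (g.injective e).symm
  have h2 : a ≠ g (g a) := fun e => by
    have : g a = a := by conv_rhs => rw [← h3, ← e]
    exact ha this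
  refine ⟨?_, h1, h2⟩
  have hsub : ({a, g a, g (g a)} : Finset α) = g.support := by
    apply Finset.eq_of_subset_of_card_le
    · intro x hx
      simp only [Finset.mem_insert, Finset.mem_singleton] at hx
      rw [mem_support]
      rcases hx with rfl | rfl | rfl
      · exact ha
      · exact Ne.symm h1
      · rw [h3]; exact h2
    · rw [hg.card_support, Finset.card_insert_of_notMem (by simp [Ne.symm ha, h2]), Finset.card_pair h1]
  ext x
  by_cases hx : x ∈ g.support
  · rw [← hsub] at hx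
    simp only [Finset.mem_insert, Finset.mem_singleton] at hx
    rcases hx with rfl | rfl | rfl
    · rw [cyc_apply_left (Ne.symm ha) h2]
    · rw [cyc_apply_mid h2 h1]
    · rw [h3, cyc_apply_right]
  · rw [notMem_support.1 hx]
    rw [← hsub] at hx
    simp only [Finset.mem_insert, Finset.mem_singleton, not_or] at hx
    rw [cyc_apply_other hx.1 hx.2.1 hx.2.2]

theorem isThreeCycle_conj {g : Perm α} (hg : g.IsThreeCycle) (h : Perm α) : (h * g * h⁻¹).IsThreeCycle := by
  unfold IsThreeCycle at *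
  rw [cycleType_conj]
  exact hg

/-- Equal, or moved by a common three-cycle in `H`. -/
def Rel (H : Subgroup (Perm α)) (a b : α) : Prop :=
  a = b ∨ ∃ g ∈ H, g.IsThreeCycle ∧ g a ≠ a ∧ g b ≠ b

variable {H : Subgroup (Perm α)}

theorem Rel.refl (a : α) : Rel H a a := Or.inl rfl

theorem Rel.symm {a b : α} (h : Rel H a b) : Rel H b a := by
  rcases h with rfl | ⟨g, hg, h3, ha, hb⟩
  · exact Or.inl rfl
  · exact Or.inr ⟨g, hg, h3, hb, ha⟩

theorem Rel.trans {a b c : α} (h : Rel H a b) (h' : Rel H b c) : Rel H a c := by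
  rcases h with rfl | ⟨g, hg, hg3, hga, hgb⟩
  · exact h'
  rcases h' with rfl | ⟨k, hk, hk3, hkb, hkc⟩
  · exact Or.inr ⟨g, hg, hg3, hga, hgb⟩
  right
  by_cases hgc : g c ≠ c
  · exact ⟨g, hg, hg3, hga, hgc⟩
  by_cases hka : k a ≠ a
  · exact ⟨k, hk, hk3, hka, hkc⟩
  push Not at hka
  obtain ⟨i, hi⟩ := hk3.isCycle.exists_pow_eq hkb hkc
  refine ⟨k ^ i * g * (k ^ i)⁻¹, H.mul_mem (H.mul_mem (H.pow_mem hk i) hg) (H.inv_mem (H.pow_mem hk i)),
    isThreeCycle_conj hg3 _, ?_, ?_⟩
  · have e : (k ^ i) a = a := Equiv.Perm.pow_apply_eq_self_of_apply_eq_self hka i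
    intro h
    apply hga
    apply (k ^ i).injective
    rw [e]
    conv_rhs => rw [← h]
    rw [Perm.mul_apply, Perm.mul_apply, Perm.inv_eq_iff_eq.2 e.symm]
  · intro h
    apply hgb
    apply (k ^ i).injective
    rw [hi]
    conv_rhs => rw [← h]
    rw [Perm.mul_apply, Perm.mul_apply, Perm.inv_eq_iff_eq.2 hi.symm]

theorem Rel.map {a b : α} (h : Rel H a b) {x : Perm α} (hx : x ∈ H) : Rel H (x a) (x b) := by
  rcases h with rfl | ⟨g, hg, h3, ha, hb⟩
  · exact Or.inl rfl
  · exact Or.inr ⟨x * g * x⁻¹, H.mul_mem (H.mul_mem hx hg) (H.inv_mem hx), isThreeCycle_conj h3 x,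
      by simpa using ha, by simpa using hb⟩

/-- In a relation between distinct points the common three-cycle may be taken to map one to the other. -/
theorem Rel.exists_map {a b : α} (h : Rel H a b) (hab : a ≠ b) : ∃ g ∈ H, g.IsThreeCycle ∧ g a = b := by
  rcases h with rfl | ⟨g, hg, h3, ha, hb⟩
  · exact absurd rfl hab
  obtain ⟨i, hi⟩ := h3.isCycle.exists_pow_eq ha hb
  have h1 : g ^ i ≠ 1 := fun e => hab (by rw [← hi, e, Perm.one_apply])
  refine ⟨g ^ i, H.pow_mem hg i, ?_, hi⟩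
  have hmod : g ^ i = g ^ (i % 3) := by rw [← h3.orderOf, pow_mod_orderOf]
  have : i % 3 = 1 ∨ i % 3 = 2 := by
    rcases (show i % 3 = 0 ∨ i % 3 = 1 ∨ i % 3 = 2 by omega) with e | e | e
    · exact absurd (by rw [hmod, e, pow_zero]) h1
    · exact Or.inl e
    · exact Or.inr e
  rcases this with e | e
  · rwa [hmod, e, pow_one]
  · rw [hmod, e, pow_two]; exact h3.isThreeCycle_sq

theorem cyc_mem {a b x : α} (hab : a ≠ b) (hax : a ≠ x) (hbx : b ≠ x) (h1 : Rel H a b) (h2 : Rel H a x) :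
    cyc a b x ∈ H := by
  obtain ⟨g, hg, hg3, hgab⟩ := h1.exists_map hab
  obtain ⟨hge, hbu, hau⟩ := three_eq_cyc hg3 (show g a ≠ a by rw [hgab]; exact hab.symm)
  rw [hgab] at hge hbu hau
  obtain ⟨u, hu⟩ : ∃ u, u = g b := ⟨_, rfl⟩
  rw [← hu] at hge hbu hau
  rw [hge] at hg
  by_cases hux : u = x
  · rw [← hux]; exact hg
  have hru : Rel H u x := by
    refine Rel.trans (Rel.symm (Or.inr ⟨g, hge ▸ hg, hg3, ?_, ?_⟩)) h2
    · rw [hgab]; exact hab.symm
    · rw [hge, cyc_apply_right]; exact hau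
  obtain ⟨h, hh, hh3, hhux⟩ := hru.exists_map hux
  obtain ⟨hhe, hxw, huw⟩ := three_eq_cyc hh3 (show h u ≠ u by rw [hhux]; exact Ne.symm hux)
  rw [hhux] at hhe hxw huw
  have hconj : ∀ k ∈ H, cyc (k a) (k b) (k u) ∈ H := fun k hk => by
    rw [← cyc_conj]; exact H.mul_mem (H.mul_mem hk hg) (H.inv_mem hk)
  by_cases hwa : h x = a
  · -- `h` is `a ↦ u ↦ x`
    have e := hconj h hh
    rw [hhux] at e
    have hha : h a = u := by rw [hhe, hwa, cyc_apply_right]
    have hhb : h b = b := by rw [hhe, hwa, cyc_apply_other hbu hbx hab.symm]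
    rw [hha, hhb] at e
    rw [← cyc_mul a b u x]
    exact H.mul_mem hg e
  by_cases hwb : h x = b
  · -- conjugating gives `a ↦ u ↦ x`
    have e := hconj h hh
    rw [hhux] at e
    have hha : h a = a := by rw [hhe, hwb, cyc_apply_other hau hax hab]
    have hhb : h b = u := by rw [hhe, hwb, cyc_apply_right]
    rw [hha, hhb] at e
    have e2 := hconj _ e
    rw [cyc_apply_left hau hax, cyc_apply_mid hax hux, cyc_apply_other hab.symm hbu hbx] at e2
    rw [← cyc_mul a b u x]
    exact H.mul_mem hg e2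
  · have e := hconj h hh
    have hha : h a = a := by rw [hhe, cyc_apply_other hau hax (Ne.symm hwa)]
    have hhb : h b = b := by rw [hhe, cyc_apply_other hbu hbx (Ne.symm hwb)]
    rwa [hhux, hha, hhb] at e

open scoped Classical in
/-- The class of a point. -/
noncomputable def cls (H : Subgroup (Perm α)) (a : α) : Finset α := Finset.univ.filter (fun b => Rel H a b)

theorem mem_cls {a b : α} : b ∈ cls H a ↔ Rel H a b := by simp [cls]

theorem self_mem_cls (a : α) : a ∈ cls H a := mem_cls.2 (Rel.refl a)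

theorem cls_eq_of_mem {a b : α} (h : b ∈ cls H a) : cls H b = cls H a := by
  ext x
  rw [mem_cls] at h
  simp only [mem_cls]
  exact ⟨fun h' => h.trans h', fun h' => h.symm.trans h'⟩

theorem cls_map (a : α) {x : Perm α} (hx : x ∈ H) : (cls H a).map x.toEmbedding = cls H (x a) := by
  ext y
  rw [Finset.mem_map_equiv, mem_cls, mem_cls]
  constructor
  · intro h
    have := h.map hx
    rwa [Equiv.apply_symm_apply] at this
  · intro h
    have := h.map (H.inv_mem hx)
    rwa [← Perm.mul_apply, inv_mul_cancel, Perm.one_apply] at this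

/-- Primes up to the size of a class divide the order of `H`. -/
theorem prime_dvd_of_le_cls {a : α} {q : ℕ} (hq : q.Prime) (hqm : q ≤ (cls H a).card)
    (hm : q = 2 → 4 ≤ (cls H a).card) : q ∣ Nat.card H := by
  obtain ⟨U, hU⟩ : ∃ U, U = cls H a := ⟨_, rfl⟩
  rw [← hU] at hqm hm
  have hle : (alternatingGroup {x // x ∈ U}).map (Perm.ofSubtype : Perm {x // x ∈ U} →* Perm α) ≤ H := by
    rw [← closure_three_cycles_eq_alternating, MonoidHom.map_closure, Subgroup.closure_le]
    rintro _ ⟨g, hg, rfl⟩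
    have hg' : (Perm.ofSubtype g).IsThreeCycle := by
      unfold IsThreeCycle
      rw [cycleType_ofSubtype]; exact hg
    obtain ⟨x, hx⟩ := hg'.isCycle.ne_one |> fun h => not_forall.1 fun h' => h (Equiv.ext h')
    obtain ⟨he, h1, h2⟩ := three_eq_cyc hg' (show Perm.ofSubtype g x ≠ x from hx)
    have hin : ∀ y, Perm.ofSubtype g y ≠ y → y ∈ U := fun y hy => by
      by_contra hyU; exact hy (ofSubtype_apply_of_not_mem g hyU)
    have hrel : ∀ y z, y ∈ U → z ∈ U → Rel H y z := fun y z hy hz => by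
      rw [hU, mem_cls] at hy hz; exact hy.symm.trans hz
    rw [SetLike.mem_coe, he]
    exact cyc_mem (Ne.symm hx) h2 h1
      (hrel _ _ (hin _ hx) (hin _ fun e => hx ((Perm.ofSubtype g).injective e)))
      (hrel _ _ (hin _ hx) (hin _ fun e => h1 ((Perm.ofSubtype g).injective e).symm))
  have h := Subgroup.card_dvd_of_le hle
  rw [Subgroup.card_map_of_injective ofSubtype_injective] at h
  refine dvd_trans ?_ h
  have h2 : 2 ≤ U.card := hq.two_le.trans hqm
  haveI : Nontrivial {x // x ∈ U} := Fintype.one_lt_card_iff_nontrivial.1 (by rw [Fintype.card_coe]; omega)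
  have hA := two_mul_nat_card_alternatingGroup (α := {x // x ∈ U})
  rw [Nat.card_perm, Nat.card_eq_fintype_card (α := {x // x ∈ U}), Fintype.card_coe] at hA
  rcases eq_or_ne q 2 with rfl | hq2
  · obtain ⟨m, hm'⟩ : 4 ∣ U.card.factorial := Nat.dvd_factorial (by norm_num) (hm rfl)
    exact ⟨m, by omega⟩
  · have hd : q ∣ 2 * Nat.card (alternatingGroup {x // x ∈ U}) := hA ▸ Nat.dvd_factorial hq.pos hqm
    exact ((Nat.coprime_primes hq Nat.prime_two).2 hq2).dvd_of_dvd_mul_left hd

theorem IsNearHall.cycle_in_cls {π : Set ℕ} (hH : IsNearHall π H) (h3 : 3 ∈ π) {c : Perm α} (hc : c ∈ H)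
    (hcc : c.IsCycle) (hr : c.support.card.Prime) (hr3 : 3 ≤ c.support.card) :
    ∃ a, c.support ⊆ cls H a := by
  obtain ⟨S, hS, hSd, hSc⟩ := hH.exists_cycles Nat.prime_three h3 (by norm_num)
  obtain ⟨a, hac, u, huS, hau⟩ : ∃ a ∈ c.support, ∃ u ∈ S, a ∈ u := by
    by_contra h
    push Not at h
    have hdis : _root_.Disjoint c.support (S.biUnion id) := Finset.disjoint_left.2 fun x hx hx' => by
      obtain ⟨u, hu, hxu⟩ := Finset.mem_biUnion.1 hx'
      exact h x hx u hu hxu
    have h1 := (Finset.card_union_of_disjoint hdis).symm.trans_le (Finset.card_le_univ _)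
    rw [card_biUnion_cycles (fun s hs => (hS s hs).1) hSd hSc] at h1
    omega
  obtain ⟨-, g, hg, hgc, rfl⟩ := hS u huS
  have hg3 : g.IsThreeCycle := card_support_eq_three_iff.1 (hS _ huS).1
  refine ⟨a, ?_⟩
  have hone : Rel H a (c a) := by
    have hga : g a ≠ a := mem_support.1 hau
    have hab : Rel H a (g a) := Or.inr ⟨g, hg, hg3, hga, fun e => hga (g.injective e)⟩
    by_cases hb : c (g a) = g a
    · have := hab.map hc
      rw [hb] at this
      exact hab.trans this.symm
    obtain ⟨i, hi⟩ := hcc.exists_pow_eq (mem_support.1 hac) hb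
    refine prime_cycle_one (c := c) hr (by rw [← hcc.orderOf, pow_orderOf_eq_one]) (Rel H a) ?_ (i := i)
      (by rw [hi]; exact hga) (by rw [hi]; exact hab)
    intro i j hi hj
    rw [pow_add, Perm.mul_apply]
    exact hi.trans (hj.map (H.pow_mem hc i))
  have hall : ∀ i : ℕ, Rel H a ((c ^ i) a) := by
    intro i
    induction i with
    | zero => exact Rel.refl a
    | succ i ih => rw [pow_succ', Perm.mul_apply]; exact hone.trans (ih.map hc)
  intro x hx
  obtain ⟨i, hi⟩ := hcc.exists_pow_eq (mem_support.1 hac) (mem_support.1 hx)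
  exact mem_cls.2 (hi ▸ hall i)

/-- `π` cuts out the primes below some `p ≥ 5`, and all classes have fewer than `p` points. -/
theorem IsNearHall.exists_primes {π : Set ℕ} (hH : IsNearHall π H)
    (h2p : ∃ r s : ℕ, r.Prime ∧ s.Prime ∧ r ≠ s ∧ r ∈ π ∧ s ∈ π ∧ r ≤ Fintype.card α ∧ s ≤ Fintype.card α)
    (hns : ∃ r : ℕ, r.Prime ∧ r ≤ Fintype.card α ∧ r ∉ π) :
    ∃ p : ℕ, p.Prime ∧ 5 ≤ p ∧ p ≤ Fintype.card α ∧
      (∀ q : ℕ, q.Prime → q ≤ Fintype.card α → (q ∈ π ↔ q < p)) ∧ ∀ a, (cls H a).card < p := by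
  classical
  have h3 := hH.three_mem h2p
  have hbig : ∀ s : ℕ, s.Prime → s ∈ π → 3 ≤ s → s ≤ Fintype.card α → ∃ a, s ≤ (cls H a).card := by
    intro s hs hsπ hs3 hsn
    obtain ⟨S, hS, -, hSc⟩ := hH.exists_cycles hs hsπ (by omega)
    obtain ⟨u, hu⟩ : S.Nonempty := Finset.card_pos.1 (by rw [hSc]; exact Nat.div_pos hsn hs.pos)
    obtain ⟨huc, c, hc, hcc, rfl⟩ := hS u hu
    obtain ⟨a, ha⟩ := hH.cycle_in_cls h3 hc hcc (huc ▸ hs) (huc ▸ hs3)
    exact ⟨a, huc ▸ Finset.card_le_card ha⟩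
  have h2 : 2 ∈ π := by
    by_contra h2
    obtain ⟨r, s, hr, hs, hne, hrπ, hsπ, hrn, hsn⟩ := h2p
    have key : ∀ q : ℕ, q.Prime → q ∈ π → q ≤ Fintype.card α → q = 3 := fun q hq hqπ hqn => by
      by_contra hq3
      have hq2 : q ≠ 2 := fun e => h2 (e ▸ hqπ)
      have := hq.two_le
      have hq4 : q ≠ 4 := fun e => by rw [e] at hq; norm_num at hq
      obtain ⟨a, ha⟩ := hbig q hq hqπ (by omega) hqn
      exact h2 (hH.pi 2 Nat.prime_two (prime_dvd_of_le_cls Nat.prime_two (by omega : 2 ≤ (cls H a).card)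
        fun _ => by omega))
    exact hne ((key r hr hrπ hrn).trans (key s hs hsπ hsn).symm)
  obtain ⟨p, hp⟩ : ∃ p, p = Nat.find hns := ⟨_, rfl⟩
  obtain ⟨hpp, hpn, hpπ⟩ : p.Prime ∧ p ≤ Fintype.card α ∧ p ∉ π := hp ▸ Nat.find_spec hns
  have hmin : ∀ q, q < p → q.Prime → q ∈ π := fun q hq hqp => by
    by_contra h
    exact Nat.find_min hns (hp ▸ hq) ⟨hqp, by omega, h⟩
  have hp5 : 5 ≤ p := by
    have := hpp.two_le
    have h1 : p ≠ 2 := fun e => hpπ (e ▸ h2)
    have h1' : p ≠ 3 := fun e => hpπ (e ▸ h3)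
    have h1'' : p ≠ 4 := fun e => by rw [e] at hpp; norm_num at hpp
    omega
  have hsmall : ∀ a, (cls H a).card < p := fun a => by
    by_contra h
    exact hpπ (hH.pi p hpp (prime_dvd_of_le_cls hpp (a := a) (by omega) fun e => by omega))
  refine ⟨p, hpp, hp5, hpn, fun q hq hqn => ⟨fun hqπ => ?_, fun h => hmin q h hq⟩, hsmall⟩
  by_contra h
  obtain ⟨a, ha⟩ := hbig q hq hqπ (by omega) hqn
  have := hsmall a
  omega

end CfsgLib.Perm.Groups.HallSym
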