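import Cfsg.Agent.Lib.Perm.Groups.HallSym.Basic

/-!
A near Hall subgroup contains `n / r` disjoint `r`-cycles for each odd prime `r` of `π`; auxiliary facts on
cycles of prime length and on products of transpositions.
-/

set_option autoImplicit false
set_option linter.unusedSectionVars false

namespace CfsgLib.Perm.Groups.HallSym

open Equiv Equiv.Perm

variable {α : Type*} [Fintype α] [DecidableEq α]

theorem IsNearHall.exists_cycles {π : Set ℕ} {H : Subgroup (Perm α)} (hH : IsNearHall π H) {r : ℕ}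
    (hr : r.Prime) (hrπ : r ∈ π) (hr2 : r ≠ 2) :
    ∃ S : Finset (Finset α), (∀ s ∈ S, s.card = r ∧ ∃ c ∈ H, c.IsCycle ∧ c.support = s) ∧
      (S : Set (Finset α)).Pairwise _root_.Disjoint ∧ S.card = Fintype.card α / r := by
  obtain ⟨g, hg⟩ : ∃ g : Perm α, g.cycleType = Multiset.replicate (Fintype.card α / r) r := by
    rw [Equiv.Perm.exists_with_cycleType_iff]
    refine ⟨?_, fun a ha => ?_⟩
    · rw [Multiset.sum_replicate, smul_eq_mul]; exact Nat.div_mul_le_self _ _
    · rw [Multiset.eq_of_mem_replicate ha]; exact hr.two_le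
  obtain ⟨F, hF⟩ : ∃ F : Finset (Perm α), F = g.cycleFactorsFinset := ⟨_, rfl⟩
  have hFcard : F.card = Fintype.card α / r := by
    have := congrArg Multiset.card hg
    rw [cycleType_def, Multiset.card_map, Multiset.card_replicate] at this
    rw [hF]; exact this
  have hFc : ∀ c ∈ F, c.IsCycle ∧ c.support.card = r := fun c hc => by
    rw [hF] at hc
    refine ⟨(mem_cycleFactorsFinset_iff.1 hc).1, ?_⟩
    have : c.support.card ∈ g.cycleType := by
      rw [cycleType_def]; exact Multiset.mem_map.2 ⟨c, hc, rfl⟩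
    rw [hg] at this
    exact Multiset.eq_of_mem_replicate this
  have hFd : (F : Set (Perm α)).Pairwise Perm.Disjoint := hF ▸ cycleFactorsFinset_pairwise_disjoint g
  have hcomm : ∀ c ∈ F, c ∈ Subgroup.centralizer (F : Set (Perm α)) := fun c hc =>
    Subgroup.mem_centralizer_iff.2 fun d hd => by
      rcases eq_or_ne d c with rfl | hne
      · rfl
      · exact (hFd hd hc hne).commute.eq
  have hex : ∀ x ∈ Subgroup.closure (F : Set (Perm α)),
      x ∈ Subgroup.centralizer (Subgroup.centralizer (F : Set (Perm α)) : Set (Perm α)) ∧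
        x ^ r = 1 ∧ x ∈ alternatingGroup α := by
    intro x hx
    induction hx using Subgroup.closure_induction with
    | mem c hc =>
      obtain ⟨h1, h2⟩ := hFc c hc
      refine ⟨Subgroup.mem_centralizer_iff.2 fun d hd => (Subgroup.mem_centralizer_iff.1 hd c hc).symm, ?_, ?_⟩
      · rw [← h2, ← h1.orderOf, pow_orderOf_eq_one]
      · rw [Equiv.Perm.mem_alternatingGroup, h1.sign, h2, (hr.odd_of_ne_two hr2).neg_one_pow, neg_neg]
    | one => exact ⟨one_mem _, one_pow _, one_mem _⟩
    | mul x y _ _ hx hy =>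
      refine ⟨mul_mem hx.1 hy.1, ?_, mul_mem hx.2.2 hy.2.2⟩
      have hxy : x * y = y * x := by
        have hyC : y ∈ Subgroup.centralizer (F : Set (Perm α)) :=
          Subgroup.mem_centralizer_iff.2 fun c hc => Subgroup.mem_centralizer_iff.1 hy.1 c (hcomm c hc)
        exact (Subgroup.mem_centralizer_iff.1 hx.1 y hyC).symm
      rw [Commute.mul_pow hxy, hx.2.1, hy.2.1, one_mul]
    | inv x _ hx => exact ⟨inv_mem hx.1, by rw [inv_pow, hx.2.1, inv_one], inv_mem hx.2.2⟩
  have hE : IsPGroup r (Subgroup.closure (F : Set (Perm α))) :=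
    fun x => ⟨1, Subtype.ext (by rw [SubgroupClass.coe_pow, pow_one]; exact (hex x x.2).2.1)⟩
  obtain ⟨h, hh⟩ := hH.exists_conj_mem hr hrπ (fun x hx => (hex x hx).2.2) hE
  refine ⟨F.image fun c => (h * c * h⁻¹).support, fun s hs => ?_, ?_, ?_⟩
  · obtain ⟨c, hc, rfl⟩ := Finset.mem_image.1 hs
    refine ⟨by rw [card_support_conj, (hFc c hc).2], _, hh c (Subgroup.subset_closure hc), (hFc c hc).1.conj, rfl⟩
  · rw [Finset.coe_image]
    rintro _ ⟨c, hc, rfl⟩ _ ⟨d, hd, rfl⟩ hne
    have hcd : c ≠ d := fun e => hne (by rw [e])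
    simp only [support_conj]
    rw [Finset.disjoint_map]
    exact disjoint_iff_disjoint_support.1 (hFd hc hd hcd)
  · rw [Finset.card_image_of_injOn, hFcard]
    intro c hc d hd he
    by_contra hne
    simp only [support_conj] at he
    have h1 := disjoint_iff_disjoint_support.1 (hFd hc hd hne)
    rw [Finset.map_injective _ he, disjoint_self] at h1
    have := (hFc d hd).2
    rw [h1] at this
    simp at this
    exact hr.ne_zero this.symm

/-- The union of the supports above leaves fewer than `r` points. -/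
theorem card_biUnion_cycles {r k : ℕ} {S : Finset (Finset α)} (hS : ∀ s ∈ S, s.card = r)
    (hd : (S : Set (Finset α)).Pairwise _root_.Disjoint) (hk : S.card = k) :
    (S.biUnion id).card = k * r := by
  rw [Finset.card_biUnion (t := id) (fun x hx y hy hne => hd hx hy hne), Finset.sum_congr rfl (fun s hs => show (id s).card = r from hS s hs),
    Finset.sum_const, hk, smul_eq_mul]

/-- A property of exponents closed under addition that holds for a power moving `a` holds for exponent one. -/
theorem prime_cycle_one {c : Perm α} {r : ℕ} (hr : r.Prime) (hc : c ^ r = 1) {a : α} (P : α → Prop)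
    (hadd : ∀ i j : ℕ, P ((c ^ i) a) → P ((c ^ j) a) → P ((c ^ (i + j)) a)) {i : ℕ} (hne : (c ^ i) a ≠ a)
    (hi : P ((c ^ i) a)) : P (c a) := by
  have hir : ¬ r ∣ i := by
    rintro ⟨t, rfl⟩
    rw [pow_mul, hc, one_pow] at hne
    exact hne rfl
  obtain ⟨k, hk⟩ := Nat.exists_mul_mod_eq_one_of_coprime
    (hr.coprime_iff_not_dvd.2 hir).symm hr.one_lt
  have hall : ∀ j, 1 ≤ j → P ((c ^ (i * j)) a) := by
    intro j hj
    induction j, hj using Nat.le_induction with
    | base => rwa [mul_one]
    | succ j _ ih => rw [mul_add, mul_one]; exact hadd _ _ ih hi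
  have hk1 : 1 ≤ k := Nat.pos_of_ne_zero fun e => by
    rw [e, mul_zero, Nat.zero_mod] at hk
    exact absurd hk.2 (by omega)
  have := hall k hk1
  rwa [← Nat.div_add_mod (i * k) r, hk.2, pow_add, pow_mul, hc, one_pow, one_mul, pow_one] at this

theorem swap_comm_swap {a b c d : α} (hac : a ≠ c) (had : a ≠ d) (hbc : b ≠ c) (hbd : b ≠ d) :
    Commute (Equiv.swap a b) (Equiv.swap c d) := by
  have h := Equiv.swap_apply_apply (Equiv.swap a b) c d
  rw [Equiv.swap_apply_of_ne_of_ne hac.symm hbc.symm, Equiv.swap_apply_of_ne_of_ne had.symm hbd.symm] at h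
  show Equiv.swap a b * Equiv.swap c d = Equiv.swap c d * Equiv.swap a b
  conv_rhs => rw [h, inv_mul_cancel_right]

theorem tri_pow {a b c : α} (hab : a ≠ b) (hac : a ≠ c) (hbc : b ≠ c) :
    (Equiv.swap a b * Equiv.swap a c) ^ 3 = 1 ∧ Equiv.swap a b * Equiv.swap a c ≠ 1 := by
  have h := isThreeCycle_swap_mul_swap_same hab hac hbc
  refine ⟨?_, fun e => ?_⟩
  · have := h.orderOf
    rw [← this, pow_orderOf_eq_one]
  · have := h.orderOf
    rw [e, orderOf_one] at this
    omega

theorem IsNearHall.three_mem_of_mem {π : Set ℕ} {H : Subgroup (Perm α)} (hH : IsNearHall π H) {z : Perm α}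
    (hz : z ∈ H) (hz3 : z ^ 3 = 1) (hz1 : z ≠ 1) : 3 ∈ π := by
  apply hH.pi 3 Nat.prime_three
  rw [← orderOf_eq_prime (p := 3) hz3 hz1]
  exact Subgroup.orderOf_dvd_natCard _ hz

end CfsgLib.Perm.Groups.HallSym
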