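import Cfsg.Agent.Lib.Perm.Groups.HallSym.Arith
import Cfsg.Agent.Lib.Perm.Groups.HallSym.Classes

/-!
Classification of near Hall subgroups of symmetric groups: they fix a point (`n = p`), a three-element set
(`n = 7`) or a partition into two four-element sets (`n = 8`).
-/

set_option autoImplicit false
set_option linter.unusedSectionVars false

namespace CfsgLib.Perm.Groups.HallSym

open Equiv Equiv.Perm

variable {α : Type*} [Fintype α] [DecidableEq α]

/-- The indicator of a set, as a labelling. -/
def memF (C : Finset α) : α → Bool := fun x => decide (x ∈ C)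

/-- The permutations mapping `C` to itself or to its complement. -/
def setStab (C : Finset α) : Subgroup (Perm α) := labPermStab (memF C) (MonoidHom.id (Perm Bool))

theorem mem_setStab {C : Finset α} {g : Perm α} :
    g ∈ setStab C ↔ (∀ x, g x ∈ C ↔ x ∈ C) ∨ ∀ x, g x ∈ C ↔ x ∉ C := by
  constructor
  · rintro ⟨s, hs⟩
    rcases Bool.eq_false_or_eq_true (s true) with h | h
    · left
      intro x
      have h' : s false = false := by
        rcases Bool.eq_false_or_eq_true (s false) with e | e
        · exact absurd (s.injective (e.trans h.symm)) (by decide)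
        · exact e
      have := hs x
      simp only [memF, MonoidHom.id_apply] at this
      by_cases hx : x ∈ C <;> simp_all
    · right
      intro x
      have h' : s false = true := by
        rcases Bool.eq_false_or_eq_true (s false) with e | e
        · exact e
        · exact absurd (s.injective (e.trans h.symm)) (by decide)
      have := hs x
      simp only [memF, MonoidHom.id_apply] at this
      by_cases hx : x ∈ C <;> simp_all
  · rintro (h | h)
    · exact ⟨1, fun x => by simp [memF, h x]⟩
    · exact ⟨Equiv.swap true false, fun x => by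
        by_cases hx : x ∈ C
        · simp [memF, h x, hx]
        · simp [memF, h x, hx]⟩

/-- An invariant family of disjoint `m`-sets: the numbers of ways to choose its union and to split the union
have no prime in `π`. -/
theorem IsNearHall.blocks_not_dvd [Nontrivial α] {π : Set ℕ} {H : Subgroup (Perm α)} (hH : IsNearHall π H)
    (B : Finset (Finset α)) {m : ℕ} (hm : 2 ≤ m) (hcard : ∀ C ∈ B, C.card = m)
    (hd : (B : Set (Finset α)).Pairwise _root_.Disjoint) (hne : B.Nonempty)
    (hinv : ∀ x ∈ H, ∀ C ∈ B, C.map x.toEmbedding ∈ B) {q : ℕ} (hq : q.Prime) (hqπ : q ∈ π) :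
    ¬ q ∣ (Fintype.card α).choose (B.card * m) ∧ ¬ q ∣ Nat.uniformBell B.card m := by
  classical
  let f : α → Option {C // C ∈ B} := fun x =>
    if h : ∃ C : {C // C ∈ B}, x ∈ C.1 then some h.choose else none
  have hf1 : ∀ x (C : {C // C ∈ B}), f x = some C ↔ x ∈ C.1 := by
    intro x C
    constructor
    · intro h
      simp only [f] at h
      split at h
      · rename_i h'
        cases h
        exact h'.choose_spec
      · cases h
    · intro h
      have h' : ∃ D : {C // C ∈ B}, x ∈ D.1 := ⟨C, h⟩
      simp only [f, dif_pos h']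
      congr 1
      apply Subtype.ext
      by_contra hne'
      exact Finset.disjoint_left.1 (hd h'.choose.2 C.2 hne') h'.choose_spec h
  have hf0 : ∀ x, f x = none ↔ x ∉ B.biUnion id := by
    intro x
    rw [Finset.mem_biUnion]
    constructor
    · rintro h ⟨C, hC, hx⟩
      rw [(hf1 x ⟨C, hC⟩).2 hx] at h
      cases h
    · intro h
      cases hfx : f x with
      | none => rfl
      | some C => exact absurd ⟨C.1, C.2, (hf1 x C).1 hfx⟩ h
  let φ : Perm {C // C ∈ B} →* Perm (Option {C // C ∈ B}) :=
    MonoidHom.mk' (fun s => Equiv.optionCongr s) (fun s t => by ext (_ | y) <;> rfl)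
  have hW : H ≤ labPermStab f φ := by
    intro x hx
    let σ : {C // C ∈ B} → {C // C ∈ B} := fun C => ⟨C.1.map x.toEmbedding, hinv x hx C.1 C.2⟩
    have hσ : Function.Injective σ := fun C D h =>
      Subtype.ext (Finset.map_injective _ (congrArg Subtype.val h))
    refine ⟨Equiv.ofBijective σ (Finite.injective_iff_bijective.1 hσ), fun y => ?_⟩
    show f (x y) = Option.map σ (f y)
    cases hfy : f y with
    | some C =>
      rw [Option.map_some, hf1]
      exact Finset.mem_map_equiv.2 (by rw [Equiv.symm_apply_apply]; exact (hf1 y C).1 hfy)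
    | none =>
      rw [Option.map_none, hf0, Finset.mem_biUnion]
      rintro ⟨D, hD, hxy⟩
      obtain ⟨C, hσC⟩ := (Finite.injective_iff_bijective.1 hσ).2 ⟨D, hD⟩
      obtain rfl : C.1.map x.toEmbedding = D := congrArg Subtype.val hσC
      have hC : y ∈ C.1 := by
        have h' : x y ∈ C.1.map x.toEmbedding := hxy
        rwa [Finset.mem_map_equiv, Equiv.symm_apply_apply] at h'
      rw [(hf1 y C).2 hC] at hfy
      cases hfy
  obtain ⟨C₀, hC₀⟩ := hne
  obtain ⟨u, hu, v, hv, huv⟩ := Finset.one_lt_card.1 (show 1 < C₀.card by rw [hcard C₀ hC₀]; omega)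
  have hodd : Equiv.swap u v ∈ labPermStab f φ := labStab_le_labPermStab f φ (swap_mem_labStab (by
    rw [(hf1 u ⟨C₀, hC₀⟩).2 hu, (hf1 v ⟨C₀, hC₀⟩).2 hv]))
  obtain ⟨a, ha⟩ : ∃ a, a = B.card := ⟨_, rfl⟩
  have hunion : (B.biUnion id).card = a * m := card_biUnion_cycles hcard hd ha.symm
  have hlab : Nat.card (labStab f) = (Fintype.card α - a * m).factorial * m.factorial ^ a := by
    rw [card_labStab, Fintype.prod_option]
    congr 1
    · congr 1
      rw [← hunion, ← Finset.card_compl]
      congr 1
      ext x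
      simp [hf0]
    · have hfib : ∀ C : {C // C ∈ B}, (Finset.univ.filter fun x => f x = some C).card.factorial = m.factorial := by
        intro C
        rw [show (Finset.univ.filter fun x => f x = some C) = C.1 by ext x; simp [hf1], hcard C.1 C.2]
      rw [Finset.prod_congr rfl (fun C _ => hfib C), Finset.prod_const, Finset.card_univ, Fintype.card_coe, ha]
  have hD : Nat.card (labPermStab f φ) ∣
      a.factorial * ((Fintype.card α - a * m).factorial * m.factorial ^ a) := by
    have h := card_labPermStab_dvd f φ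
    rwa [Nat.card_perm, Nat.card_eq_fintype_card (α := {C // C ∈ B}), Fintype.card_coe, ← ha, hlab] at h
  have hN : a.factorial * ((Fintype.card α - a * m).factorial * m.factorial ^ a) *
      ((Fintype.card α).choose (a * m) * Nat.uniformBell a m) = (Fintype.card α).factorial := by
    rw [← Nat.choose_mul_factorial_mul_factorial (hunion ▸ Finset.card_le_univ _ : a * m ≤ Fintype.card α),
      ← Nat.uniformBell_mul_eq a (by omega : m ≠ 0)]
    ring
  have hnd := hH.not_dvd hW hodd (sign_swap huv) hD hN hq hqπ
  rw [← ha]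
  exact ⟨fun h => hnd (h.mul_right _), fun h => hnd (h.mul_left _)⟩

/-- Two disjoint invariant sets. -/
theorem IsNearHall.pair_not_dvd [Nontrivial α] {π : Set ℕ} {H : Subgroup (Perm α)} (hH : IsNearHall π H)
    {C D : Finset α} (hCD : _root_.Disjoint C D) (hC : 2 ≤ C.card)
    (hCi : ∀ x ∈ H, C.map x.toEmbedding = C) (hDi : ∀ x ∈ H, D.map x.toEmbedding = D) {q : ℕ} (hq : q.Prime)
    (hqπ : q ∈ π) : ¬ q ∣ (C.card + D.card).choose C.card := by
  let f : α → Fin 3 := fun x => if x ∈ C then 0 else if x ∈ D then 1 else 2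
  have hK : H ≤ labStab f := fun x hx y => by
    have h1 : x y ∈ C ↔ y ∈ C := by
      conv_lhs => rw [← hCi x hx]
      rw [Finset.mem_map_equiv, Equiv.symm_apply_apply]
    have h2 : x y ∈ D ↔ y ∈ D := by
      conv_lhs => rw [← hDi x hx]
      rw [Finset.mem_map_equiv, Equiv.symm_apply_apply]
    simp only [f, h1, h2]
  obtain ⟨u, hu, v, hv, huv⟩ := Finset.one_lt_card.1 (show 1 < C.card by omega)
  have hle : C.card + D.card ≤ Fintype.card α := by
    rw [← Finset.card_union_of_disjoint hCD]; exact Finset.card_le_univ _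
  have hcard : Nat.card (labStab f) =
      C.card.factorial * D.card.factorial * (Fintype.card α - (C.card + D.card)).factorial := by
    have h0 : (Finset.univ.filter fun x => f x = 0) = C := by
      ext x; simp only [Finset.mem_filter, Finset.mem_univ, true_and, f]; split_ifs <;> simp_all
    have h1 : (Finset.univ.filter fun x => f x = 1) = D := by
      ext x
      have : x ∈ C → x ∉ D := fun h => Finset.disjoint_left.1 hCD h
      simp only [Finset.mem_filter, Finset.mem_univ, true_and, f]; split_ifs <;> simp_all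
    have h2 : (Finset.univ.filter fun x => f x = 2) = (C ∪ D)ᶜ := by
      ext x; simp only [Finset.mem_filter, Finset.mem_univ, true_and, f, Finset.mem_compl, Finset.mem_union]
      split_ifs <;> simp_all
    rw [card_labStab, Fin.prod_univ_three, h0, h1, h2, Finset.card_compl, Finset.card_union_of_disjoint hCD]
  have hN : C.card.factorial * D.card.factorial * (Fintype.card α - (C.card + D.card)).factorial *
      ((Fintype.card α).choose (C.card + D.card) * (C.card + D.card).choose C.card) =
      (Fintype.card α).factorial := by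
    have h := Nat.choose_mul_factorial_mul_factorial (Nat.le_add_right C.card D.card)
    rw [Nat.add_sub_cancel_left] at h
    rw [← Nat.choose_mul_factorial_mul_factorial hle, ← h]
    ring
  exact fun h => hH.not_dvd hK (σ := Equiv.swap u v) (swap_mem_labStab (by simp [f, hu, hv])) (sign_swap huv)
    (dvd_of_eq hcard) hN hq hqπ (h.mul_left _)

/-- **Classification.** -/
theorem IsNearHall.classify {π : Set ℕ} {H : Subgroup (Perm α)} (hH : IsNearHall π H)
    (h2p : ∃ r s : ℕ, r.Prime ∧ s.Prime ∧ r ≠ s ∧ r ∈ π ∧ s ∈ π ∧ r ≤ Fintype.card α ∧ s ≤ Fintype.card α)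
    (hns : ∃ r : ℕ, r.Prime ∧ r ≤ Fintype.card α ∧ r ∉ π) :
    ∃ p c : ℕ, p.Prime ∧ 5 ≤ p ∧ p ≤ Fintype.card α ∧
      (∀ q : ℕ, q.Prime → q ≤ Fintype.card α → (q ∈ π ↔ q < p)) ∧
      ((Fintype.card α = p ∧ c = 1) ∨ (p = 5 ∧ Fintype.card α = 7 ∧ c = 3) ∨
        (p = 5 ∧ Fintype.card α = 8 ∧ c = 4)) ∧
      ∃ C : Finset α, C.card = c ∧ H ≤ setStab C := by
  classical
  obtain ⟨p, hp, hp5, hpn, hπ, hsmall⟩ := hH.exists_primes h2p hns
  haveI : Nontrivial α := Fintype.one_lt_card_iff_nontrivial.1 (by omega)
  obtain ⟨n, hn⟩ : ∃ n, Fintype.card α = n := ⟨_, rfl⟩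
  rw [hn] at hpn
  rw [hn] at hπ ⊢
  have hmem : ∀ q, q.Prime → q < p → q ∈ π := fun q hq hqp => (hπ q hq (by omega)).2 hqp
  -- the largest prime below `p`
  obtain ⟨r, hr⟩ : ∃ r, r = Nat.findGreatest Nat.Prime (p - 1) := ⟨_, rfl⟩
  have hr3 : 3 ≤ r := hr ▸ Nat.le_findGreatest (by omega) Nat.prime_three
  have hrp : r.Prime := hr ▸ Nat.findGreatest_spec (P := Nat.Prime) (by omega : 3 ≤ p - 1) Nat.prime_three
  have hrlt : r < p := by have := Nat.findGreatest_le (P := Nat.Prime) (p - 1); omega
  have hp2r : p < 2 * r := by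
    obtain ⟨s, hs, hrs, hs2⟩ := Nat.exists_prime_lt_and_le_two_mul r (by omega)
    have h1 : p - 1 < s := by
      by_contra h
      have := Nat.le_findGreatest (P := Nat.Prime) (by omega : s ≤ p - 1) hs
      omega
    obtain ⟨j, hj⟩ := hp.odd_of_ne_two (by omega)
    omega
  have hrπ : r ∈ π := hmem r hrp hrlt
  -- the big classes
  obtain ⟨B, hB⟩ : ∃ B, B = (Finset.univ.image (cls H)).filter (fun C => r ≤ C.card) := ⟨_, rfl⟩
  have hBmem : ∀ C, C ∈ B ↔ (∃ a, cls H a = C) ∧ r ≤ C.card := fun C => by simp [hB]
  have hBlt : ∀ C ∈ B, C.card < p := fun C hC => by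
    obtain ⟨⟨a, rfl⟩, -⟩ := (hBmem C).1 hC; exact hsmall a
  have hBd : (B : Set (Finset α)).Pairwise _root_.Disjoint := fun C hC D hD hne => by
    obtain ⟨⟨a, rfl⟩, -⟩ := (hBmem C).1 hC
    obtain ⟨⟨b, rfl⟩, -⟩ := (hBmem D).1 hD
    refine Finset.disjoint_left.2 fun x hxa hxb => hne ?_
    rw [← cls_eq_of_mem hxa, cls_eq_of_mem hxb]
  have hBinv : ∀ x ∈ H, ∀ C ∈ B, C.map x.toEmbedding ∈ B := fun x hx C hC => by
    obtain ⟨⟨a, rfl⟩, hr'⟩ := (hBmem C).1 hC
    exact (hBmem _).2 ⟨⟨x a, (cls_map a hx).symm⟩, by rw [Finset.card_map]; exact hr'⟩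
  have hBk : B.card = n / r := by
    obtain ⟨S, hS, hSd, hSc⟩ := hH.exists_cycles hrp hrπ (by omega)
    rw [hn] at hSc
    apply le_antisymm
    · rw [Nat.le_div_iff_mul_le hrp.pos]
      have h1 : (B.biUnion id).card = ∑ C ∈ B, C.card :=
        Finset.card_biUnion (t := id) fun x hx y hy hne => hBd hx hy hne
      have h2 : B.card * r ≤ ∑ C ∈ B, C.card := by
        have h3 := Finset.card_nsmul_le_sum B (fun C : Finset α => C.card) r fun C hC => ((hBmem C).1 hC).2
        simpa using h3
      have h4 := Finset.card_le_univ (B.biUnion id)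
      omega
    · rw [← hSc]
      have hex : ∀ s, ∃ C, s ∈ S → C ∈ B ∧ s ⊆ C := fun s => by
        by_cases hs : s ∈ S
        · obtain ⟨hsc, c, hc, hcc, rfl⟩ := hS s hs
          obtain ⟨a, ha⟩ := hH.cycle_in_cls (hmem 3 Nat.prime_three (by omega)) hc hcc (hsc ▸ hrp) (hsc ▸ hr3)
          exact ⟨cls H a, fun _ => ⟨(hBmem _).2 ⟨⟨a, rfl⟩, hsc ▸ Finset.card_le_card ha⟩, ha⟩⟩
        · exact ⟨∅, fun h => absurd h hs⟩
      choose F hF using hex
      apply Finset.card_le_card_of_injOn F (fun s hs => (hF s hs).1)
      intro s hs t ht he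
      by_contra hne
      have h1 : s ∪ t ⊆ F s := Finset.union_subset (hF s hs).2 (he ▸ (hF t ht).2)
      have h2 := Finset.card_le_card h1
      rw [Finset.card_union_of_disjoint (hSd hs ht hne), (hS s hs).1, (hS t ht).1] at h2
      have h3 := hBlt _ (hF s hs).1
      omega
  have hBpos : 0 < B.card := by rw [hBk]; exact Nat.div_pos (by omega) hrp.pos
  have hnlt : n < (B.card + 1) * r := by
    have h1 := Nat.div_add_mod n r
    have h2 := Nat.mod_lt n hrp.pos
    rw [hBk, add_mul, one_mul, mul_comm]
    omega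
  have hBsum : ∀ T ⊆ B, ∑ C ∈ T, C.card ≤ n := fun T hT => by
    have h1 : (T.biUnion id).card = ∑ C ∈ T, C.card :=
      Finset.card_biUnion (t := id) fun x hx y hy hne => hBd (hT hx) (hT hy) hne
    have h4 := Finset.card_le_univ (T.biUnion id)
    omega
  -- the classes of one size
  have hblocks : ∀ m, (B.filter fun C => C.card = m).Nonempty → ∀ q : ℕ, q.Prime → q < p →
      ¬ q ∣ n.choose ((B.filter fun C => C.card = m).card * m) ∧
        ¬ q ∣ Nat.uniformBell (B.filter fun C => C.card = m).card m := by
    intro m hne q hq hqp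
    obtain ⟨C, hC⟩ := hne
    have hm : 2 ≤ m := by
      have h1 := ((hBmem C).1 (Finset.mem_filter.1 hC).1).2
      have h2 := (Finset.mem_filter.1 hC).2
      omega
    have := hH.blocks_not_dvd (B.filter fun C => C.card = m) hm (fun C hC => (Finset.mem_filter.1 hC).2)
      (hBd.mono (Finset.coe_subset.2 (Finset.filter_subset _ _))) ⟨C, hC⟩ (fun x hx C hC => by
        rw [Finset.mem_filter] at hC ⊢
        exact ⟨hBinv x hx C hC.1, by rw [Finset.card_map]; exact hC.2⟩) hq (hmem q hq hqp)
    rwa [hn] at this
  by_cases hrep : ∃ m, 2 ≤ (B.filter fun C => C.card = m).card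
  · -- two classes of equal size
    obtain ⟨m, hm⟩ := hrep
    obtain ⟨B', hB'⟩ : ∃ B', B' = B.filter (fun C => C.card = m) := ⟨_, rfl⟩
    have hne : B'.Nonempty := Finset.card_pos.1 (by rw [hB']; omega)
    obtain ⟨C, hC⟩ := hne
    rw [hB', Finset.mem_filter] at hC
    have hmr : r ≤ m := by rw [← hC.2]; exact ((hBmem C).1 hC.1).2
    have hmp : m < p := by rw [← hC.2]; exact hBlt C hC.1
    have hub : ∀ j, j < B'.card → ∀ q : ℕ, q.Prime → q < p → ¬ q ∣ (j * m + m - 1).choose (m - 1) := by
      intro j hj q hq hqp h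
      refine (hblocks m ⟨C, Finset.mem_filter.2 hC⟩ q hq hqp).2 ?_
      rw [← hB', Nat.uniformBell_eq]
      exact h.trans (Finset.dvd_prod_of_mem (fun j => (j * m + m - 1).choose (m - 1)) (Finset.mem_range.2 hj))
    obtain ⟨hm3, hm4, hp5'⟩ := binom_coprime_eq hp (m := m) (l := m - 1) (by omega) (by omega) hmp (by omega)
      (fun q hq hqp => by
        have := hub 1 (by rw [hB']; omega) q hq hqp
        rwa [one_mul, show m + m - 1 = m + (m - 1) by omega] at this)
    subst hm4 hp5'
    have hr_eq : r = 3 := by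
      rcases (show r = 3 ∨ r = 4 by omega) with h | h
      · exact h
      · rw [h] at hrp; norm_num at hrp
    subst hr_eq
    have hcard2 : B'.card = 2 := by
      have h2 : 2 ≤ B'.card := hB' ▸ hm
      by_contra h
      exact hub 2 (by omega) 3 Nat.prime_three (by norm_num)
        (by norm_num [Nat.choose_eq_factorial_div_factorial, Nat.factorial])
    have hother : ∀ D ∈ B, D ∉ B' → D.card = 3 := fun D hD hD' => by
      have h1 := ((hBmem D).1 hD).2
      have h2 := hBlt D hD
      have h3 : D.card ≠ 4 := fun e => hD' (hB' ▸ Finset.mem_filter.2 ⟨hD, e⟩)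
      omega
    have hBB : B' = B := by
      apply Finset.Subset.antisymm (hB' ▸ Finset.filter_subset _ _)
      intro D hD
      by_contra hD'
      have hD3 := hother D hD hD'
      obtain ⟨B3, hB3⟩ : ∃ B3, B3 = B.filter (fun C => C.card = 3) := ⟨_, rfl⟩
      have hB3ne : B3.Nonempty := ⟨D, hB3 ▸ Finset.mem_filter.2 ⟨hD, hD3⟩⟩
      have hB3one : B3.card = 1 := by
        have := Finset.card_pos.2 hB3ne
        by_contra h
        obtain ⟨h3', -, -⟩ := binom_coprime_eq hp (m := 3) (l := 2) le_rfl (by norm_num) (by norm_num)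
          (by norm_num) fun q hq hqp hdiv => by
            refine (hblocks 3 (hB3 ▸ hB3ne) q hq hqp).2 ?_
            rw [← hB3, Nat.uniformBell_eq]
            exact dvd_trans (show q ∣ (1 * 3 + 3 - 1).choose (3 - 1) from hdiv)
              (Finset.dvd_prod_of_mem (fun j => (j * 3 + 3 - 1).choose (3 - 1))
                (Finset.mem_range.2 (show 1 < B3.card by omega)))
        omega
      have hBcard : B.card = 3 := by
        have : B = B' ∪ B3 := by
          ext E
          rw [Finset.mem_union]
          refine ⟨fun hE => ?_, ?_⟩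
          · by_cases hE' : E ∈ B'
            · exact Or.inl hE'
            · exact Or.inr (hB3 ▸ Finset.mem_filter.2 ⟨hE, hother E hE hE'⟩)
          · rw [hB', hB3]; rintro (h | h) <;> exact (Finset.mem_filter.1 h).1
        rw [this, Finset.card_union_of_disjoint, hcard2, hB3one]
        rw [Finset.disjoint_left, hB', hB3]
        intro E h h'
        have := (Finset.mem_filter.1 h).2
        have := (Finset.mem_filter.1 h').2
        omega
      have hn11 : n = 11 := by
        have h1 := hBsum (insert D B') (Finset.insert_subset hD (hB' ▸ Finset.filter_subset _ _))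
        rw [Finset.sum_insert hD', hD3, Finset.sum_congr rfl (fun E hE => (Finset.mem_filter.1 (show E ∈ B.filter (fun C => C.card = 4) from hB' ▸ hE)).2),
          Finset.sum_const, hcard2, smul_eq_mul] at h1
        rw [hBcard] at hnlt
        omega
      apply (hblocks 3 (hB3 ▸ hB3ne) 3 Nat.prime_three (by norm_num)).1
      rw [← hB3, hB3one, hn11]
      norm_num [Nat.choose_eq_factorial_div_factorial, Nat.factorial]
    have hn8 : n = 8 := by
      have h1 := hBsum B' (hB' ▸ Finset.filter_subset _ _)
      rw [Finset.sum_congr rfl (fun E hE => (Finset.mem_filter.1 (show E ∈ B.filter (fun C => C.card = 4) from hB' ▸ hE)).2),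
        Finset.sum_const, hcard2, smul_eq_mul] at h1
      rw [← hBB, hcard2] at hnlt
      omega
    obtain ⟨E, F, hEF, hEq⟩ := Finset.card_eq_two.1 hcard2
    have hEB : E ∈ B ∧ E.card = 4 := Finset.mem_filter.1 (hB' ▸ hEq ▸ Finset.mem_insert_self E {F})
    have hFB : F ∈ B ∧ F.card = 4 := Finset.mem_filter.1 (hB' ▸ hEq ▸ (by simp : F ∈ ({E, F} : Finset _)))
    have hcompl : F = Eᶜ := by
      apply Finset.eq_of_subset_of_card_le
      · intro x hx
        exact Finset.mem_compl.2 fun hx' => Finset.disjoint_left.1 (hBd hEB.1 hFB.1 hEF) hx' hx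
      · rw [Finset.card_compl, hn, hn8, hEB.2, hFB.2]
    refine ⟨5, 4, hp, le_rfl, hpn, hπ, Or.inr (Or.inr ⟨rfl, hn8, rfl⟩), E, hEB.2, fun x hx => ?_⟩
    rw [mem_setStab]
    have h := hBinv x hx E hEB.1
    rw [← hBB, hEq, Finset.mem_insert, Finset.mem_singleton, hcompl] at h
    rcases h with h | h
    · left; intro y; conv_lhs => rw [← h]
      rw [Finset.mem_map_equiv, Equiv.symm_apply_apply]
    · right; intro y
      have := congrArg (fun T : Finset α => x y ∈ T) h
      simp only [Finset.mem_map_equiv, Equiv.symm_apply_apply, Finset.mem_compl, eq_iff_iff] at this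
      tauto
  · -- all big classes have different sizes
    push Not at hrep
    have hfix : ∀ C ∈ B, ∀ x ∈ H, C.map x.toEmbedding = C := fun C hC x hx => by
      have h2 := hrep C.card
      have := Finset.card_le_one.1 (Nat.le_of_lt_succ h2) C (Finset.mem_filter.2 ⟨hC, rfl⟩) _
        (Finset.mem_filter.2 ⟨hBinv x hx C hC, Finset.card_map _⟩)
      exact this.symm
    have hne_card : ∀ C ∈ B, ∀ D ∈ B, C ≠ D → C.card ≠ D.card := fun C hC D hD hne e =>
      hne (Finset.card_le_one.1 (Nat.le_of_lt_succ (hrep C.card)) C (Finset.mem_filter.2 ⟨hC, rfl⟩) D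
        (Finset.mem_filter.2 ⟨hD, e.symm⟩))
    have hpair : ∀ C ∈ B, ∀ D ∈ B, C.card < D.card → C.card = 3 ∧ D.card = 4 ∧ p = 5 := by
      intro C hC D hD hlt
      have h1 := ((hBmem C).1 hC).2
      have h2 := hBlt D hD
      refine binom_coprime_eq hp (by omega) hlt.le h2 (by omega) fun q hq hqp => ?_
      rw [add_comm D.card]
      exact hH.pair_not_dvd (hBd hC hD fun e => by rw [e] at hlt; omega) (by omega) (hfix C hC) (hfix D hD) hq
        (hmem q hq hqp)
    have hinvset : ∀ C ∈ B, H ≤ setStab C := fun C hC x hx => by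
      rw [mem_setStab]; left; intro y
      conv_lhs => rw [← hfix C hC x hx]
      rw [Finset.mem_map_equiv, Equiv.symm_apply_apply]
    have hchoose : ∀ C ∈ B, ∀ q : ℕ, q.Prime → q < p → ¬ q ∣ n.choose C.card := fun C hC q hq hqp => by
      have h := hH.blocks_not_dvd {C} (m := C.card) (by have := ((hBmem C).1 hC).2; omega) (by simp)
        (by simp) (Finset.singleton_nonempty C) (fun x hx D hD => by
          rw [Finset.mem_singleton] at hD ⊢; rw [hD, hfix C hC x hx]) hq (hmem q hq hqp)
      rw [Finset.card_singleton, one_mul, hn] at h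
      exact h.1
    by_cases hk : B.card = 1
    · obtain ⟨C, hBC⟩ := Finset.card_eq_one.1 hk
      have hC : C ∈ B := hBC ▸ Finset.mem_singleton_self C
      have hCr := ((hBmem C).1 hC).2
      have hCp := hBlt C hC
      rw [hk] at hnlt
      obtain ⟨m, hm⟩ : ∃ m, C.card = m := ⟨_, rfl⟩
      rw [hm] at hCr hCp
      by_cases hl : n = m + 1
      · have hnp : n = p := by omega
        refine ⟨p, 1, hp, hp5, hpn, hπ, Or.inl ⟨hnp, rfl⟩, Cᶜ, ?_, fun x hx => ?_⟩
        · rw [Finset.card_compl, hn, hm]; omega
        · rw [mem_setStab]; left; intro y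
          rw [Finset.mem_compl, Finset.mem_compl]
          conv_lhs => rw [← hfix C hC x hx]
          rw [Finset.mem_map_equiv, Equiv.symm_apply_apply]
      · exfalso
        obtain ⟨h3, h4, rfl⟩ := binom_coprime_eq hp (m := m) (l := n - m) (by omega) (by omega) hCp (by omega)
          fun q hq hqp => by
            rw [show m + (n - m) = n by omega, Nat.choose_symm (by omega : m ≤ n), ← hm]
            exact hchoose C hC q hq hqp
        have hr4 : r ≠ 4 := fun e => by rw [e] at hrp; norm_num at hrp
        omega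
    · obtain ⟨C, hC, D, hD, hCD⟩ := Finset.one_lt_card.1 (show 1 < B.card by omega)
      wlog hlt : C.card < D.card generalizing C D
      · have hne' := hne_card C hC D hD hCD
        exact this D hD C hC hCD.symm (by omega)
      obtain ⟨hC3, hD4, rfl⟩ := hpair C hC D hD hlt
      have hr_eq : r = 3 := by
        rcases (show r = 3 ∨ r = 4 by omega) with h | h
        · exact h
        · rw [h] at hrp; norm_num at hrp
      subst hr_eq
      have hBeq : B = {C, D} := by
        ext E
        rw [Finset.mem_insert, Finset.mem_singleton]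
        refine ⟨fun hE => ?_, ?_⟩
        · by_contra h
          push Not at h
          have h1 := ((hBmem E).1 hE).2
          have h2 := hBlt E hE
          have h3 := hne_card E hE C hC h.1
          have h4 := hne_card E hE D hD h.2
          omega
        · rintro (rfl | rfl) <;> assumption
      have hn7 : n = 7 ∨ n = 8 := by
        have h1 := hBsum {C, D} (hBeq ▸ le_rfl)
        rw [Finset.sum_pair hCD, hC3, hD4] at h1
        rw [hBeq, Finset.card_pair hCD] at hnlt
        omega
      rcases hn7 with hn7 | hn8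
      · exact ⟨5, 3, hp, le_rfl, hpn, hπ, Or.inr (Or.inl ⟨rfl, hn7, rfl⟩), C, hC3, hinvset C hC⟩
      · exfalso
        apply hchoose C hC 2 Nat.prime_two (by norm_num)
        rw [hn8, hC3]
        norm_num [Nat.choose_eq_factorial_div_factorial, Nat.factorial]

end CfsgLib.Perm.Groups.HallSym
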