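import Cfsg.Agent.Lib.Perm.Groups.HallSym.Main

/-!
The Hall subgroups found by the classification, their conjugacy, and the standard facts for the trivial sets of
primes.
-/

set_option autoImplicit false
set_option linter.unusedSectionVars false

namespace CfsgLib.Perm.Groups.HallSym

open Equiv Equiv.Perm

/-! ### Generalities -/

section General

variable {G : Type*} [Group G] [Finite G] {π : Set ℕ}

theorem hall_eq_of_le {H K : Subgroup G} (hH : Cfsg.IsPiHall π H) (hHK : H ≤ K)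
    (hK : ∀ q : ℕ, q.Prime → q ∣ Nat.card K → q ∈ π) : H = K := by
  refine le_antisymm hHK ?_
  rw [← Subgroup.relIndex_eq_one]
  by_contra hne
  obtain ⟨q, hq, hd⟩ := Nat.exists_prime_and_dvd hne
  have h1 : q ∣ Nat.card K := hd.trans (by
    exact ⟨_, (H.subgroupOf K).index_mul_card.symm⟩)
  exact hH.2 q hq (hK q hq h1) (hd.trans ⟨_, (Subgroup.relIndex_mul_index hHK).symm⟩)

theorem exists_maximal_pi {K : Subgroup G} (hK : Cfsg.IsPiSubgroup π K) :
    ∃ M, K ≤ M ∧ Maximal (Cfsg.IsPiSubgroup π) M := by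
  obtain ⟨M, hle, hM⟩ := Finite.exists_le_maximal (p := Cfsg.IsPiSubgroup π) hK
  exact ⟨M, hle, hM⟩

theorem isPiHall_of_maximal (hD : Cfsg.IsDPiGroup π G) {M : Subgroup G} (hM : Maximal (Cfsg.IsPiSubgroup π) M) :
    Cfsg.IsPiHall π M := by
  refine ⟨hM.1, fun q hq hqπ hd => ?_⟩
  haveI := Fact.mk hq
  obtain ⟨Q⟩ : Nonempty (Sylow q G) := inferInstance
  have hQ : Cfsg.IsPiSubgroup π (Q : Subgroup G) := fun s hs hsd => by
    obtain ⟨e, he⟩ := Q.isPGroup'.exists_card_eq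
    rw [he] at hsd
    rw [(Nat.prime_dvd_prime_iff_eq hs hq).1 (hs.dvd_of_dvd_pow hsd)]
    exact hqπ
  obtain ⟨M', hQM, hM'⟩ := exists_maximal_pi hQ
  obtain ⟨g, hg⟩ := hD M M' hM hM'
  have h1 : Nat.card (Q : Subgroup G) ∣ Nat.card M := by
    have := Subgroup.card_dvd_of_le hQM
    rwa [hg, Subgroup.card_map_of_injective (f := (MulAut.conj g).toMonoidHom) (MulAut.conj g).injective] at this
  obtain ⟨k, hk⟩ := h1
  exact Q.not_dvd_index (hd.trans ⟨k, by
    have e1 := (Q : Subgroup G).index_mul_card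
    have e2 := M.index_mul_card
    rw [hk, ← e1] at e2
    exact Nat.eq_of_mul_eq_mul_right Nat.card_pos (by rw [← e2]; ring)⟩)

theorem cd_of_all (h : ∀ q : ℕ, q.Prime → q ∣ Nat.card G → q ∈ π) :
    Cfsg.IsCPiGroup π G ∧ Cfsg.IsDPiGroup π G := by
  have htop : Cfsg.IsPiHall π (⊤ : Subgroup G) :=
    ⟨fun q hq hd => h q hq (by rwa [Subgroup.card_top] at hd),
      fun q hq _ hd => hq.one_lt.ne' (Nat.eq_one_of_dvd_one (by rwa [Subgroup.index_top] at hd))⟩
  have huniq : ∀ H : Subgroup G, Cfsg.IsPiHall π H → H = ⊤ := fun H hH => hall_eq_of_le hH le_top htop.1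
  refine ⟨⟨⟨⊤, htop⟩, fun H K hH hK => ⟨1, by rw [huniq H hH, huniq K hK]; simp⟩⟩, fun H K hH hK => ⟨1, ?_⟩⟩
  rw [top_unique (hH.2 htop.1 le_top), top_unique (hK.2 htop.1 le_top)]
  simp

theorem cd_of_one (h : ∀ r s : ℕ, r.Prime → s.Prime → r ∈ π → s ∈ π → r ∣ Nat.card G → s ∣ Nat.card G → r = s) :
    Cfsg.IsCPiGroup π G ∧ Cfsg.IsDPiGroup π G := by
  obtain ⟨q, hq, hsub, hqG⟩ : ∃ q : ℕ, q.Prime ∧ (∀ r, r.Prime → r ∈ π → r ∣ Nat.card G → r = q) ∧
      (q ∣ Nat.card G → q ∈ π) := by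
    by_cases hex : ∃ q, q.Prime ∧ q ∈ π ∧ q ∣ Nat.card G
    · obtain ⟨q, hq, hqπ, hqG⟩ := hex
      exact ⟨q, hq, fun r hr hrπ hrG => h r q hr hq hrπ hqπ hrG hqG, fun _ => hqπ⟩
    · obtain ⟨q, hq1, hq⟩ := Nat.exists_infinite_primes (Nat.card G + 1)
      refine ⟨q, hq, fun r hr hrπ hrG => absurd ⟨r, hr, hrπ, hrG⟩ hex, fun hd => ?_⟩
      have := Nat.le_of_dvd Nat.card_pos hd
      omega
  haveI := Fact.mk hq
  have hpi : ∀ K : Subgroup G, Cfsg.IsPiSubgroup π K ↔ IsPGroup q K := by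
    refine fun K => ⟨fun hK => IsPGroup.of_card (n := (Nat.card K).primeFactorsList.length)
      (Nat.eq_prime_pow_of_unique_prime_dvd Nat.card_pos.ne' fun {d} hd hdK =>
        hsub d hd (hK d hd hdK) (hdK.trans (Subgroup.card_subgroup_dvd_card K))), fun hK s hs hsd => ?_⟩
    obtain ⟨e, he⟩ := hK.exists_card_eq
    have hsq : s = q := (Nat.prime_dvd_prime_iff_eq hs hq).1 (hs.dvd_of_dvd_pow (he ▸ hsd))
    subst hsq
    exact hqG (hsd.trans (Subgroup.card_subgroup_dvd_card K))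
  have hmax : ∀ H : Subgroup G, Maximal (Cfsg.IsPiSubgroup π) H → ∃ P : Sylow q G, (P : Subgroup G) = H := by
    intro H hH
    obtain ⟨P, hP⟩ := ((hpi H).1 hH.1).exists_le_sylow
    exact ⟨P, le_antisymm (hH.2 ((hpi _).2 P.isPGroup') hP) hP⟩
  have hHall : ∀ H : Subgroup G, Cfsg.IsPiHall π H → Maximal (Cfsg.IsPiSubgroup π) H := fun H hH =>
    ⟨hH.1, fun K hK hle => (hall_eq_of_le hH hle hK).ge⟩
  have hconj : ∀ H K : Subgroup G, Maximal (Cfsg.IsPiSubgroup π) H → Maximal (Cfsg.IsPiSubgroup π) K →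
      ∃ g : G, K = H.map (MulAut.conj g).toMonoidHom := by
    intro H K hH hK
    obtain ⟨P, rfl⟩ := hmax H hH
    obtain ⟨R, rfl⟩ := hmax K hK
    obtain ⟨g, hg⟩ := MulAction.exists_smul_eq G P R
    exact ⟨g, by rw [← hg, Sylow.coe_subgroup_smul]; rfl⟩
  obtain ⟨P⟩ : Nonempty (Sylow q G) := inferInstance
  refine ⟨⟨⟨(P : Subgroup G), (hpi _).2 P.isPGroup', fun r hr hrπ hd => ?_⟩,
    fun H K hH hK => hconj H K (hHall H hH) (hHall K hK)⟩, hconj⟩
  obtain rfl : r = q := hsub r hr hrπ (hd.trans ⟨_, (P : Subgroup G).index_mul_card.symm⟩)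
  exact P.not_dvd_index hd

end General

/-! ### The shapes -/

variable {α : Type*} [Fintype α] [DecidableEq α]

/-- The three nonstandard cases. -/
def ShapeData (n p c : ℕ) : Prop :=
  p.Prime ∧ 5 ≤ p ∧ p ≤ n ∧ ((n = p ∧ c = 1) ∨ (p = 5 ∧ n = 7 ∧ c = 3) ∨ (p = 5 ∧ n = 8 ∧ c = 4))

theorem labStab_le_setStab (C : Finset α) : labStab (memF C) ≤ setStab C :=
  labStab_le_labPermStab _ _

theorem setStab_invariant {C : Finset α} (h : 2 * C.card ≠ Fintype.card α) {g : Perm α} (hg : g ∈ setStab C)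
    (x : α) : g x ∈ C ↔ x ∈ C := by
  rcases mem_setStab.1 hg with h1 | h1
  · exact h1 x
  · exfalso
    apply h
    have : C = Cᶜ.map g.toEmbedding := by
      ext y
      rw [Finset.mem_map_equiv, Finset.mem_compl, ← h1, Equiv.apply_symm_apply]
    have hc := congrArg Finset.card this
    rw [Finset.card_map, Finset.card_compl] at hc
    have := Finset.card_le_univ C
    omega

theorem card_labStab_memF (C : Finset α) :
    Nat.card (labStab (memF C)) = C.card.factorial * (Fintype.card α - C.card).factorial := by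
  rw [card_labStab, Fintype.prod_bool, show (Finset.univ.filter fun x => memF C x = true) = C by ext; simp [memF],
    show (Finset.univ.filter fun x => memF C x = false) = Cᶜ by ext; simp [memF], Finset.card_compl]

theorem exists_perm_map {C D : Finset α} (h : C.card = D.card) : ∃ g : Perm α, ∀ x, g x ∈ D ↔ x ∈ C := by
  obtain ⟨e, he⟩ : ∃ e : {x // x ∈ C} ≃ {x // x ∈ D}, e = Finset.equivOfCardEq h := ⟨_, rfl⟩
  refine ⟨e.extendSubtype, fun x => ⟨fun hx => ?_, fun hx => Equiv.extendSubtype_mem e x hx⟩⟩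
  by_contra hn
  exact Equiv.extendSubtype_not_mem e x hn hx

theorem card_setStab_eq {C : Finset α} (h : 2 * C.card ≠ Fintype.card α) :
    Nat.card (setStab C) = C.card.factorial * (Fintype.card α - C.card).factorial := by
  have : setStab C = labStab (memF C) := le_antisymm (fun g hg x => by
    simp only [memF, setStab_invariant h hg x]) (labStab_le_setStab C)
  rw [this, card_labStab_memF]

theorem card_setStab_eq_half {C : Finset α} (h : 2 * C.card = Fintype.card α) (h0 : 0 < C.card) :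
    Nat.card (setStab C) = 2 * (C.card.factorial * C.card.factorial) := by
  have hd := card_labPermStab_dvd (memF C) (MonoidHom.id (Perm Bool))
  rw [card_labStab_memF, Nat.card_perm, Nat.card_eq_fintype_card (α := Bool), Fintype.card_bool,
    show Fintype.card α - C.card = C.card by omega] at hd
  obtain ⟨t, ht⟩ := Subgroup.card_dvd_of_le (labStab_le_setStab C)
  rw [card_labStab_memF, show Fintype.card α - C.card = C.card by omega] at ht
  have hd' : C.card.factorial * C.card.factorial * t ∣ C.card.factorial * C.card.factorial * 2 := by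
    rw [← ht, mul_comm _ 2]; exact hd
  rcases (Nat.dvd_prime Nat.prime_two).1
    (Nat.dvd_of_mul_dvd_mul_left (Nat.mul_pos (Nat.factorial_pos _) (Nat.factorial_pos _)) hd') with rfl | rfl
  · exfalso
    -- there is an element exchanging `C` and its complement
    obtain ⟨g, hg⟩ := exists_perm_map (C := C) (D := Cᶜ) (by rw [Finset.card_compl]; omega)
    have hgS : g ∈ setStab C := mem_setStab.2 (Or.inr fun x => by
      have := hg x
      rw [Finset.mem_compl] at this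
      tauto)
    have hle : setStab C = labStab (memF C) := (Subgroup.eq_of_le_of_card_ge (labStab_le_setStab C) (by
      rw [card_labStab_memF, show Fintype.card α - C.card = C.card by omega, ht, mul_one])).symm
    rw [hle] at hgS
    obtain ⟨u, hu⟩ := Finset.card_pos.1 h0
    have h1 := hg u
    rw [Finset.mem_compl] at h1
    have := hgS u
    simp only [memF, decide_eq_decide] at this
    tauto
  · rw [ht, mul_comm]

theorem setStab_conj {C D : Finset α} {g : Perm α} (hg : ∀ x, g x ∈ D ↔ x ∈ C) (x : Perm α) :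
    g * x * g⁻¹ ∈ setStab D ↔ x ∈ setStab C := by
  rw [mem_setStab, mem_setStab]
  have key : ∀ y, (g * x * g⁻¹) (g y) = g (x y) := fun y => by simp
  constructor
  · rintro (h | h)
    · left; intro y; have := h (g y); rw [key, hg, hg] at this; exact this
    · right; intro y; have := h (g y); rw [key, hg, hg] at this; exact this
  · rintro (h | h)
    · left; intro z; obtain ⟨y, rfl⟩ := g.surjective z; rw [key, hg, hg]; exact h y
    · right; intro z; obtain ⟨y, rfl⟩ := g.surjective z; rw [key, hg, hg]; exact h y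

theorem setStab_shape [Nontrivial α] {π : Set ℕ} {p c : ℕ} (hS : ShapeData (Fintype.card α) p c)
    (hπ : ∀ q : ℕ, q.Prime → q ≤ Fintype.card α → (q ∈ π ↔ q < p)) {C : Finset α} (hC : C.card = c) :
    (∃ σ ∈ setStab C, Perm.sign σ = -1) ∧ Cfsg.IsPiHall π (setStab C) ∧
      Cfsg.IsPiHall π ((setStab C).subgroupOf (alternatingGroup α)) := by
  obtain ⟨hp, hp5, hpn, hcases⟩ := hS
  obtain ⟨n, hn⟩ : ∃ n, Fintype.card α = n := ⟨_, rfl⟩
  rw [hn] at hπ hpn hcases
  -- order and index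
  obtain ⟨D, N, hD, hN, hDN, hDp, hNp⟩ : ∃ D N : ℕ, Nat.card (setStab C) = D ∧ 0 < N ∧ D * N = n.factorial ∧
      (∀ q : ℕ, q.Prime → q ∣ D → q < p) ∧ (∀ q : ℕ, q.Prime → q ∣ N → p ≤ q) := by
    rcases hcases with ⟨rfl, rfl⟩ | ⟨rfl, rfl, rfl⟩ | ⟨rfl, rfl, rfl⟩
    · refine ⟨(n - 1).factorial, n, ?_, by omega, by rw [mul_comm]; exact Nat.mul_factorial_pred (by omega),
        fun q hq hd => ?_, fun q hq hd => ((Nat.prime_dvd_prime_iff_eq hq hp).1 hd).ge⟩
      · rw [card_setStab_eq (by rw [hC, hn]; omega), hC, hn]; simp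
      · have := (Nat.Prime.dvd_factorial hq).1 hd; omega
    · refine ⟨Nat.factorial 3 * Nat.factorial 4, 35, ?_, by norm_num, rfl, fun q hq hd => ?_, fun q hq hd => ?_⟩
      · rw [card_setStab_eq (by rw [hC, hn]; norm_num), hC, hn]
      · rcases (Nat.Prime.dvd_mul hq).1 hd with h | h <;> (have := (Nat.Prime.dvd_factorial hq).1 h; omega)
      · rcases (Nat.Prime.dvd_mul hq).1 (show q ∣ 5 * 7 from hd) with h | h
        · exact ((Nat.prime_dvd_prime_iff_eq hq Nat.prime_five).1 h).ge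
        · have := (Nat.prime_dvd_prime_iff_eq hq (by norm_num : Nat.Prime 7)).1 h; omega
    · refine ⟨2 * (Nat.factorial 4 * Nat.factorial 4), 35, ?_, by norm_num, rfl, fun q hq hd => ?_, fun q hq hd => ?_⟩
      · rw [card_setStab_eq_half (by rw [hC, hn]) (by omega), hC]
      · rcases (Nat.Prime.dvd_mul hq).1 hd with h | h
        · have := Nat.le_of_dvd (by norm_num) h; omega
        · rcases (Nat.Prime.dvd_mul hq).1 h with h | h <;> (have := (Nat.Prime.dvd_factorial hq).1 h; omega)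
      · rcases (Nat.Prime.dvd_mul hq).1 (show q ∣ 5 * 7 from hd) with h | h
        · exact ((Nat.prime_dvd_prime_iff_eq hq Nat.prime_five).1 h).ge
        · have := (Nat.prime_dvd_prime_iff_eq hq (by norm_num : Nat.Prime 7)).1 h; omega
  have hidx : (setStab C).index = N := by
    have h := (setStab C).index_mul_card
    rw [Nat.card_perm, Nat.card_eq_fintype_card (α := α), hn, hD, ← hDN, mul_comm D] at h
    exact Nat.eq_of_mul_eq_mul_right (hD ▸ Nat.card_pos) h
  have hle : ∀ q : ℕ, q.Prime → q ∣ D * N → q ≤ n := fun q hq hd => (Nat.Prime.dvd_factorial hq).1 (hDN ▸ hd)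
  have hodd : ∃ σ ∈ setStab C, Perm.sign σ = -1 := by
    obtain ⟨u, hu, v, hv, huv⟩ := Finset.one_lt_card.1 (show 1 < Cᶜ.card by rw [Finset.card_compl, hC, hn]; omega)
    rw [Finset.mem_compl] at hu hv
    exact ⟨Equiv.swap u v, labStab_le_setStab C (swap_mem_labStab (by simp [memF, hu, hv])), sign_swap huv⟩
  refine ⟨hodd, ⟨fun q hq hd => ?_, fun q hq hqπ hd => ?_⟩, fun q hq hd => ?_, fun q hq hqπ hd => ?_⟩
  · rw [hD] at hd
    exact (hπ q hq (hle q hq (hd.mul_right N))).2 (hDp q hq hd)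
  · rw [hidx] at hd
    have := hNp q hq hd
    have := (hπ q hq (hle q hq (hd.mul_left D))).1 hqπ
    omega
  · have hd' : q ∣ D := by
      have h1 : Nat.card ((setStab C).subgroupOf (alternatingGroup α)) ∣ Nat.card (setStab C) := by
        rw [← Subgroup.card_map_of_injective (alternatingGroup α).subtype_injective]
        exact Subgroup.card_dvd_of_le (by
          rw [Subgroup.subgroupOf_map_subtype]
          exact inf_le_left)
      exact hD ▸ hd.trans h1
    exact (hπ q hq (hle q hq (hd'.mul_right N))).2 (hDp q hq hd')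
  · obtain ⟨σ, hσ, hs⟩ := hodd
    rw [← Subgroup.relIndex, alt_relIndex_of_odd hσ hs, hidx] at hd
    have := hNp q hq hd
    have := (hπ q hq (hle q hq (hd.mul_left D))).1 hqπ
    omega

theorem classify' {π : Set ℕ} {H : Subgroup (Perm α)} (hH : IsNearHall π H)
    (h2p : ∃ r s : ℕ, r.Prime ∧ s.Prime ∧ r ≠ s ∧ r ∈ π ∧ s ∈ π ∧ r ≤ Fintype.card α ∧ s ≤ Fintype.card α)
    (hns : ∃ r : ℕ, r.Prime ∧ r ≤ Fintype.card α ∧ r ∉ π) :
    ∃ p c : ℕ, ShapeData (Fintype.card α) p c ∧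
      (∀ q : ℕ, q.Prime → q ≤ Fintype.card α → (q ∈ π ↔ q < p)) ∧
      ∃ C : Finset α, C.card = c ∧ H ≤ setStab C := by
  obtain ⟨p, c, hp, hp5, hpn, hπ, hc, hC⟩ := hH.classify h2p hns
  exact ⟨p, c, ⟨hp, hp5, hpn, hc⟩, hπ, hC⟩

theorem shape_unique {π : Set ℕ} {n p c p' c' : ℕ} (h : ShapeData n p c) (h' : ShapeData n p' c')
    (hπ : ∀ q : ℕ, q.Prime → q ≤ n → (q ∈ π ↔ q < p))
    (hπ' : ∀ q : ℕ, q.Prime → q ≤ n → (q ∈ π ↔ q < p')) : p = p' ∧ c = c' := by
  have hpp : p = p' := by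
    rcases lt_trichotomy p p' with hlt | heq | hgt
    · exact absurd ((hπ p h.1 h.2.2.1).1 ((hπ' p h.1 h.2.2.1).2 hlt)) (lt_irrefl _)
    · exact heq
    · exact absurd ((hπ' p' h'.1 h'.2.2.1).1 ((hπ p' h'.1 h'.2.2.1).2 hgt)) (lt_irrefl _)
  refine ⟨hpp, ?_⟩
  have h1 := h.2.2.2
  have h2 := h'.2.2.2
  omega

theorem cPi_perm [Nontrivial α] {π : Set ℕ}
    (h2p : ∃ r s : ℕ, r.Prime ∧ s.Prime ∧ r ≠ s ∧ r ∈ π ∧ s ∈ π ∧ r ≤ Fintype.card α ∧ s ≤ Fintype.card α)
    (hns : ∃ r : ℕ, r.Prime ∧ r ≤ Fintype.card α ∧ r ∉ π) (hE : Cfsg.IsEPiGroup π (Perm α)) :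
    Cfsg.IsCPiGroup π (Perm α) := by
  refine ⟨hE, fun H K hH hK => ?_⟩
  obtain ⟨p, c, hS, hπ, C, hC, hHC⟩ := classify' (isNearHall_of_hall hH) h2p hns
  obtain ⟨p', c', hS', hπ', D, hD, hKD⟩ := classify' (isNearHall_of_hall hK) h2p hns
  obtain ⟨rfl, rfl⟩ := shape_unique hS hS' hπ hπ'
  obtain rfl := hall_eq_of_le hH hHC (setStab_shape hS hπ hC).2.1.1
  obtain rfl := hall_eq_of_le hK hKD (setStab_shape hS' hπ' hD).2.1.1
  obtain ⟨g, hg⟩ := exists_perm_map (hC.trans hD.symm)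
  refine ⟨g, ?_⟩
  ext y
  rw [Subgroup.mem_map]
  constructor
  · intro hy
    exact ⟨g⁻¹ * y * g, (setStab_conj hg _).1 (by simpa [mul_assoc] using hy), by simp [mul_assoc]⟩
  · rintro ⟨x, hx, rfl⟩
    exact (setStab_conj hg x).2 hx

theorem cPi_alt [Nontrivial α] {π : Set ℕ}
    (h2p : ∃ r s : ℕ, r.Prime ∧ s.Prime ∧ r ≠ s ∧ r ∈ π ∧ s ∈ π ∧ r ≤ Fintype.card α ∧ s ≤ Fintype.card α)
    (hns : ∃ r : ℕ, r.Prime ∧ r ≤ Fintype.card α ∧ r ∉ π) (hE : Cfsg.IsEPiGroup π (alternatingGroup α)) :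
    Cfsg.IsCPiGroup π (alternatingGroup α) := by
  refine ⟨hE, fun H K hH hK => ?_⟩
  obtain ⟨p, c, hS, hπ, C, hC, hHC⟩ := classify' (isNearHall_map_subtype hH) h2p hns
  obtain ⟨p', c', hS', hπ', D, hD, hKD⟩ := classify' (isNearHall_map_subtype hK) h2p hns
  obtain ⟨rfl, rfl⟩ := shape_unique hS hS' hπ hπ'
  rw [Subgroup.map_le_iff_le_comap] at hHC hKD
  obtain ⟨⟨σ, hσ, hσs⟩, -, hHallC⟩ := setStab_shape hS hπ hC
  obtain rfl := hall_eq_of_le hH hHC hHallC.1
  obtain rfl := hall_eq_of_le hK hKD (setStab_shape hS' hπ' hD).2.2.1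
  obtain ⟨g, hg⟩ := exists_perm_map (hC.trans hD.symm)
  obtain ⟨g', hg'A, hg'⟩ : ∃ g' ∈ alternatingGroup α, ∀ x : Perm α, g' * x * g'⁻¹ ∈ setStab D ↔ x ∈ setStab C := by
    rcases Int.units_eq_one_or (Perm.sign g) with h | h
    · exact ⟨g, Equiv.Perm.mem_alternatingGroup.2 h, setStab_conj hg⟩
    · refine ⟨g * σ, Equiv.Perm.mem_alternatingGroup.2 (by rw [Perm.sign_mul, h, hσs]; decide), fun x => ?_⟩
      rw [show g * σ * x * (g * σ)⁻¹ = g * (σ * x * σ⁻¹) * g⁻¹ by simp [mul_assoc], setStab_conj hg]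
      exact ⟨fun hx => by simpa [mul_assoc] using (setStab C).mul_mem ((setStab C).mul_mem ((setStab C).inv_mem hσ) hx) hσ,
        fun hx => (setStab C).mul_mem ((setStab C).mul_mem hσ hx) ((setStab C).inv_mem hσ)⟩
  refine ⟨⟨g', hg'A⟩, ?_⟩
  ext y
  rw [Subgroup.mem_map]
  constructor
  · intro hy
    refine ⟨(⟨g', hg'A⟩ : alternatingGroup α)⁻¹ * y * ⟨g', hg'A⟩, ?_, by simp [mul_assoc]⟩
    rw [Subgroup.mem_comap] at hy ⊢
    exact (hg' _).1 (by simpa [mul_assoc] using hy)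
  · rintro ⟨x, hx, rfl⟩
    rw [Subgroup.mem_comap] at hx ⊢
    simpa [mul_assoc] using (hg' _).2 hx

theorem ePi_alt_iff [Nontrivial α] {π : Set ℕ}
    (h2p : ∃ r s : ℕ, r.Prime ∧ s.Prime ∧ r ≠ s ∧ r ∈ π ∧ s ∈ π ∧ r ≤ Fintype.card α ∧ s ≤ Fintype.card α)
    (hns : ∃ r : ℕ, r.Prime ∧ r ≤ Fintype.card α ∧ r ∉ π) :
    Cfsg.IsEPiGroup π (Perm α) ↔ Cfsg.IsEPiGroup π (alternatingGroup α) := by
  constructor
  · rintro ⟨H, hH⟩
    obtain ⟨p, c, hS, hπ, C, hC, -⟩ := classify' (isNearHall_of_hall hH) h2p hns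
    exact ⟨_, (setStab_shape hS hπ hC).2.2⟩
  · rintro ⟨H, hH⟩
    obtain ⟨p, c, hS, hπ, C, hC, -⟩ := classify' (isNearHall_map_subtype hH) h2p hns
    exact ⟨_, (setStab_shape hS hπ hC).2.1⟩

theorem prime_dvd_card_alt [Nontrivial α] (hn : 4 ≤ Fintype.card α) {q : ℕ} (hq : q.Prime) :
    q ∣ Nat.card (alternatingGroup α) ↔ q ≤ Fintype.card α := by
  have h := two_mul_nat_card_alternatingGroup (α := α)
  rw [Nat.card_perm, Nat.card_eq_fintype_card (α := α)] at h
  constructor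
  · intro hd
    exact (Nat.Prime.dvd_factorial hq).1 (h ▸ hd.mul_left 2)
  · intro hle
    rcases eq_or_ne q 2 with rfl | hq2
    · obtain ⟨m, hm⟩ : 4 ∣ (Fintype.card α).factorial := Nat.dvd_factorial (by norm_num) hn
      exact ⟨m, by omega⟩
    · exact ((Nat.coprime_primes hq Nat.prime_two).2 hq2).dvd_of_dvd_mul_left (h ▸ Nat.dvd_factorial hq.pos hle)

theorem prime_le_of_dvd_perm {q : ℕ} (hq : q.Prime) (hd : q ∣ Nat.card (Perm α)) : q ≤ Fintype.card α := by
  rw [Nat.card_perm, Nat.card_eq_fintype_card] at hd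
  exact (Nat.Prime.dvd_factorial hq).1 hd

theorem prime_le_of_dvd_alt {q : ℕ} (hq : q.Prime) (hd : q ∣ Nat.card (alternatingGroup α)) :
    q ≤ Fintype.card α :=
  prime_le_of_dvd_perm hq (hd.trans (Subgroup.card_subgroup_dvd_card _))

end CfsgLib.Perm.Groups.HallSym
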