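import Cfsg.Agent.Lib.Perm.Groups.HallSym.Cycles
import Cfsg.Agent.S0713

/-!
A near Hall subgroup for at least two primes `≤ n` forces `3 ∈ π`.
-/

set_option autoImplicit false
set_option linter.unusedSectionVars false

namespace CfsgLib.Perm.Groups.HallSym

open Equiv Equiv.Perm

variable {α : Type*} [Fintype α] [DecidableEq α]

/-- An involution with at most one fixed point all of whose products of two transpositions lie in `H`. -/
structure Good (H : Subgroup (Perm α)) (τ : Perm α) : Prop where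
  inv : ∀ x, τ (τ x) = x
  fix : ∀ x y, τ x = x → τ y = y → x = y
  prod : ∀ a b, τ a ≠ a → τ b ≠ b → b ≠ a → b ≠ τ a → Equiv.swap a (τ a) * Equiv.swap b (τ b) ∈ H

theorem good_conj {H : Subgroup (Perm α)} {τ g : Perm α} (hinv : ∀ x, τ (τ x) = x)
    (hfix : ∀ x y, τ x = x → τ y = y → x = y)
    (hprod : ∀ a b, τ a ≠ a → τ b ≠ b → b ≠ a → b ≠ τ a →
      g * (Equiv.swap a (τ a) * Equiv.swap b (τ b)) * g⁻¹ ∈ H) : Good H (g * τ * g⁻¹) := by
  have happ : ∀ x, (g * τ * g⁻¹) (g x) = g (τ x) := fun x => by simp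
  refine ⟨fun x => ?_, fun x y hx hy => ?_, fun a b ha hb hba hbta => ?_⟩
  · obtain ⟨u, rfl⟩ := g.surjective x
    rw [happ, happ, hinv]
  · obtain ⟨u, rfl⟩ := g.surjective x
    obtain ⟨v, rfl⟩ := g.surjective y
    rw [happ] at hx hy
    rw [hfix u v (g.injective hx) (g.injective hy)]
  · obtain ⟨u, rfl⟩ := g.surjective a
    obtain ⟨v, rfl⟩ := g.surjective b
    rw [happ] at ha hb hbta
    have := hprod u v (fun e => ha (by rw [e])) (fun e => hb (by rw [e])) (fun e => hba (by rw [e]))
      (fun e => hbta (by rw [e]))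
    rw [happ, happ, Equiv.swap_apply_apply, Equiv.swap_apply_apply]
    simpa [mul_assoc] using this

theorem Good.conj {H : Subgroup (Perm α)} {τ g : Perm α} (h : Good H τ) (hg : g ∈ H) :
    Good H (g * τ * g⁻¹) :=
  good_conj h.inv h.fix fun a b h1 h2 h3 h4 => H.mul_mem (H.mul_mem hg (h.prod a b h1 h2 h3 h4)) (H.inv_mem hg)

theorem exists_pairing : ∃ τ : Perm α, (∀ x, τ (τ x) = x) ∧ ∀ x y, τ x = x → τ y = y → x = y := by
  obtain ⟨n, hn⟩ : ∃ n, Fintype.card α = n := ⟨_, rfl⟩
  let e : α ≃ Fin n := Fintype.equivFinOfCardEq hn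
  obtain ⟨v, hv⟩ : ∃ v : ℕ → ℕ,
      v = fun i => if i % 2 = 0 ∧ i + 1 < n then i + 1 else if i % 2 = 1 then i - 1 else i := ⟨_, rfl⟩
  have hvlt : ∀ i, i < n → v i < n := fun i hi => by simp only [hv]; split_ifs <;> omega
  have hvv : ∀ i, i < n → v (v i) = i := fun i hi => by simp only [hv]; split_ifs <;> omega
  have hvf : ∀ i, i < n → v i = i → i + 1 = n := fun i hi h => by
    simp only [hv] at h; split_ifs at h <;> omega
  let f : Fin n → Fin n := fun i => ⟨v i, hvlt i i.isLt⟩
  have hf : ∀ i, f (f i) = i := fun i => Fin.ext (hvv i i.isLt)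
  have hfix : ∀ i, f i = i → i.val + 1 = n := fun i hi => hvf i i.isLt (congrArg Fin.val hi)
  refine ⟨e.symm.permCongr (Function.Involutive.toPerm f hf), fun x => ?_, fun x y hx hy => ?_⟩
  · show e.symm (f (e (e.symm (f (e x))))) = x
    rw [Equiv.apply_symm_apply, hf, Equiv.symm_apply_apply]
  · replace hx : e.symm (f (e x)) = x := hx
    replace hy : e.symm (f (e y)) = y := hy
    rw [Equiv.symm_apply_eq] at hx hy
    have h1 := hfix _ hx
    have h2 := hfix _ hy
    exact e.injective (Fin.ext (by omega))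

theorem IsNearHall.exists_good {π : Set ℕ} {H : Subgroup (Perm α)} (hH : IsNearHall π H) (h2 : 2 ∈ π) :
    ∃ τ, Good H τ := by
  obtain ⟨τ, hinv, hfix⟩ := exists_pairing (α := α)
  have sq : ∀ g : Perm α, (∀ x, g x = x ∨ g x = τ x) → g * g = 1 := fun g hg => Equiv.ext fun x => by
    show g (g x) = x
    rcases hg x with h | h
    · rw [h, h]
    · rw [h]
      rcases hg (τ x) with h' | h'
      · rw [h']; exact g.injective (h'.trans h.symm)
      · rw [h', hinv]
  let E : Subgroup (Perm α) :=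
    { carrier := {g | (∀ x, g x = x ∨ g x = τ x) ∧ g ∈ alternatingGroup α}
      one_mem' := ⟨fun x => Or.inl rfl, one_mem _⟩
      mul_mem' := fun {g h} hg hh => ⟨fun x => by
        show g (h x) = x ∨ g (h x) = τ x
        rcases hh.1 x with e | e <;> rw [e]
        · exact hg.1 x
        · rcases hg.1 (τ x) with e' | e'
          · exact Or.inr e'
          · exact Or.inl (by rw [e', hinv]), mul_mem hg.2 hh.2⟩
      inv_mem' := fun {g} hg => by
        rw [Set.mem_ofPred_eq, inv_eq_of_mul_eq_one_right (sq g hg.1)]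
        exact hg }
  have hE : IsPGroup 2 E := fun x => ⟨1, Subtype.ext (by rw [SubgroupClass.coe_pow, pow_one, pow_two]; exact sq x x.2.1)⟩
  obtain ⟨g, hg⟩ := hH.exists_conj_mem Nat.prime_two h2 (fun x (hx : x ∈ E) => hx.2) hE
  refine ⟨g * τ * g⁻¹, good_conj hinv hfix fun a b ha hb hba hbta => hg _ ⟨fun x => ?_, ?_⟩⟩
  · rw [Perm.mul_apply]
    have hab1 : a ≠ τ b := fun e => hbta (by rw [e, hinv])
    have hab2 : τ a ≠ τ b := fun e => hba (τ.injective e).symm
    rcases eq_or_ne x a with rfl | hxa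
    · rw [Equiv.swap_apply_of_ne_of_ne hba.symm hab1, Equiv.swap_apply_left]; exact Or.inr rfl
    rcases eq_or_ne x (τ a) with rfl | hxa'
    · rw [Equiv.swap_apply_of_ne_of_ne hbta.symm hab2, Equiv.swap_apply_right, hinv]; exact Or.inr rfl
    rcases eq_or_ne x b with rfl | hxb
    · rw [Equiv.swap_apply_left, Equiv.swap_apply_of_ne_of_ne hab1.symm hab2.symm]; exact Or.inr rfl
    rcases eq_or_ne x (τ b) with rfl | hxb'
    · rw [Equiv.swap_apply_right, Equiv.swap_apply_of_ne_of_ne hba hbta, hinv]; exact Or.inr rfl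
    rw [Equiv.swap_apply_of_ne_of_ne hxb hxb', Equiv.swap_apply_of_ne_of_ne hxa hxa']; exact Or.inl rfl
  · rw [Equiv.Perm.mem_alternatingGroup, Perm.sign_mul, sign_swap ha.symm, sign_swap hb.symm]; decide

/-- Two different good involutions yield an element of order three. -/
theorem three_of_good_ne {π : Set ℕ} {H : Subgroup (Perm α)} (hH : IsNearHall π H)
    (hn : 6 ≤ Fintype.card α) {τ τ' : Perm α} (hτ : Good H τ) (hτ' : Good H τ') (hne : τ' ≠ τ) : 3 ∈ π := by
  obtain ⟨a, ha, ha', hd⟩ : ∃ a, τ a ≠ a ∧ τ' a ≠ a ∧ τ' a ≠ τ a := by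
    by_contra h
    push Not at h
    apply hne
    ext x
    by_cases h1 : τ x = x
    · by_contra h2
      have h3 : τ (τ' x) ≠ τ' x := fun e => h2 ((hτ.fix _ _ e h1).trans h1.symm)
      have h4 := h _ h3 (fun e => h2 ((τ'.injective e).trans h1.symm))
      rw [hτ'.inv] at h4
      have h5 := congrArg τ h4
      rw [hτ.inv, h1] at h5
      exact h2 (h5.symm.trans h1.symm)
    by_cases h2 : τ' x = x
    · exfalso
      have h3 : τ' (τ x) ≠ τ x := fun e => h1 (hτ'.fix _ _ e h2)
      have h4 := h _ (fun e => h1 (τ.injective e)) h3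
      rw [hτ.inv] at h4
      have h5 := congrArg τ' h4
      rw [hτ'.inv, h2] at h5
      exact h1 h5
    exact h x h1 h2
  obtain ⟨a', rfl⟩ : ∃ a', τ a = a' := ⟨_, rfl⟩
  obtain ⟨b, hb⟩ : ∃ b, τ' a = b := ⟨_, rfl⟩
  rw [hb] at ha' hd
  obtain ⟨p, hp⟩ : ∃ p, p ∉ ({a, b, τ a, τ' (τ a)} : Finset α) ∪ Finset.univ.filter (fun x => τ' x = x) := by
    by_contra h
    push Not at h
    have h1 : Fintype.card α ≤ (({a, b, τ a, τ' (τ a)} : Finset α) ∪
        Finset.univ.filter (fun x => τ' x = x)).card :=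
      Finset.card_le_card (s := Finset.univ) fun x _ => h x
    have h2 : (Finset.univ.filter (fun x => τ' x = x)).card ≤ 1 :=
      Finset.card_le_one.2 fun x hx y hy => hτ'.fix x y (Finset.mem_filter.1 hx).2 (Finset.mem_filter.1 hy).2
    have h3 := Finset.card_union_le ({a, b, τ a, τ' (τ a)} : Finset α) (Finset.univ.filter (fun x => τ' x = x))
    have h4 : ({a, b, τ a, τ' (τ a)} : Finset α).card ≤ 4 := Finset.card_le_four
    omega
  simp only [Finset.mem_union, Finset.mem_insert, Finset.mem_singleton, Finset.mem_filter, Finset.mem_univ,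
    true_and, not_or] at hp
  obtain ⟨⟨hpa, hpb, hpa', hpa''⟩, hpf⟩ := hp
  replace hpa : p ≠ a := hpa
  replace hpb : p ≠ b := hpb
  replace hpa' : p ≠ τ a := hpa'
  obtain ⟨q, hq⟩ : ∃ q, τ' p = q := ⟨_, rfl⟩
  rw [hq] at hpf
  have hqa : q ≠ a := fun e => hpb (by rw [← hb, ← e, ← hq, hτ'.inv])
  have hqb : q ≠ b := fun e => hpa (τ'.injective (by rw [hq, e, hb]))
  have hqa' : q ≠ τ a := fun e => hpa'' (by rw [← e, ← hq, hτ'.inv])
  have hy : Equiv.swap a b * Equiv.swap p q ∈ H := by
    have := hτ'.prod a p (by rw [hb]; exact ha') (by rw [hq]; exact hpf) hpa (by rw [hb]; exact hpb)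
    rwa [hb, hq] at this
  have hba' : b ≠ τ a := hd
  obtain ⟨ht3, ht1⟩ := tri_pow (a := a) (b := b) (c := τ a) ha'.symm ha.symm hba'
  by_cases hc1 : τ p = q
  · have hx := hτ.prod a p ha (by rw [hc1]; exact hpf) hpa hpa'
    rw [hc1] at hx
    apply hH.three_mem_of_mem (z := Equiv.swap a b * Equiv.swap a (τ a)) ?_ ht3 ht1
    have e : (Equiv.swap a b * Equiv.swap p q) * (Equiv.swap a (τ a) * Equiv.swap p q) =
        Equiv.swap a b * Equiv.swap a (τ a) := by
      rw [(swap_comm_swap hpa.symm hqa.symm hpa'.symm hqa'.symm).eq, mul_assoc, ← mul_assoc (Equiv.swap p q),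
        Equiv.swap_mul_self, one_mul]
    exact e ▸ H.mul_mem hy hx
  have case2 : ∀ u v : α, Equiv.swap a b * Equiv.swap u v ∈ H → u ≠ a → u ≠ b → u ≠ τ a → v ≠ a → v ≠ b →
      v ≠ τ a → u ≠ v → τ u ≠ u → τ u ≠ b → τ u ≠ v → 3 ∈ π := by
    intro u v hy hua hub hua' hva hvb hva' huv hu hu' huv'
    have hx := hτ.prod a u ha hu hua hua'
    have h1 : τ u ≠ a := fun e => hua' (by rw [← e, hτ.inv])
    have h2 : τ u ≠ τ a := fun e => hua (τ.injective e)
    obtain ⟨hs3, -⟩ := tri_pow (a := u) (b := v) (c := τ u) huv hu.symm huv'.symm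
    refine hH.three_mem_of_mem (z := (Equiv.swap a b * Equiv.swap a (τ a)) *
      (Equiv.swap u v * Equiv.swap u (τ u))) ?_ ?_ ?_
    · have e : (Equiv.swap a b * Equiv.swap u v) * (Equiv.swap a (τ a) * Equiv.swap u (τ u)) =
          (Equiv.swap a b * Equiv.swap a (τ a)) * (Equiv.swap u v * Equiv.swap u (τ u)) := by
        rw [mul_assoc, ← mul_assoc (Equiv.swap u v), ← (swap_comm_swap hua.symm hva.symm hua'.symm hva'.symm).eq]
        simp only [mul_assoc]
      exact e ▸ H.mul_mem hy hx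
    · rw [Commute.mul_pow, ht3, hs3, one_mul]
      exact ((swap_comm_swap hua.symm hva.symm hub.symm hvb.symm).mul_right
          (swap_comm_swap hua.symm h1.symm hub.symm hu'.symm)).mul_left
        ((swap_comm_swap hua.symm hva.symm hua'.symm hva'.symm).mul_right
          (swap_comm_swap hua.symm h1.symm hua'.symm h2.symm))
    · intro e
      have h := congrArg (fun g : Perm α => g (τ a)) e
      simp only [Perm.mul_apply, Perm.one_apply, Equiv.swap_apply_of_ne_of_ne hua'.symm h2.symm,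
        Equiv.swap_apply_of_ne_of_ne hua'.symm hva'.symm, Equiv.swap_apply_right, Equiv.swap_apply_left] at h
      exact hba' h
  by_cases hp2 : τ p ≠ p ∧ τ p ≠ b
  · exact case2 p q hy hpa hpb hpa' hqa hqb hqa' (Ne.symm hpf) hp2.1 hp2.2 hc1
  by_cases hq2 : τ q ≠ q ∧ τ q ≠ b
  · refine case2 q p (by rwa [Equiv.swap_comm q p]) hqa hqb hqa' hpa hpb hpa' hpf hq2.1 hq2.2 ?_
    intro e
    exact hc1 (by rw [← e, hτ.inv])
  -- one of `p`, `q` is paired with `b`, the other one is fixed
  have hclosed : ∀ x ∈ ({a, τ a, b, p, q} : Finset α), τ x ∈ ({a, τ a, b, p, q} : Finset α) := by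
    have hb2 : τ b = p ∨ τ b = q := by
      by_cases e1 : τ p = b
      · exact Or.inl (by rw [← e1, hτ.inv])
      by_cases e2 : τ q = b
      · exact Or.inr (by rw [← e2, hτ.inv])
      exfalso
      exact hpf (hτ.fix q p (by tauto) (by tauto))
    intro x hx
    simp only [Finset.mem_insert, Finset.mem_singleton] at hx ⊢
    rcases hx with rfl | rfl | rfl | rfl | rfl
    · tauto
    · exact Or.inl (hτ.inv a)
    · tauto
    · tauto
    · tauto
  have hfixin : ∀ x, τ x = x → x ∈ ({a, τ a, b, p, q} : Finset α) := by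
    intro x hx
    have : x = p ∨ x = q := by
      by_cases e1 : τ p = p
      · exact Or.inl (hτ.fix x p hx e1)
      by_cases e2 : τ q = q
      · exact Or.inr (hτ.fix x q hx e2)
      exfalso
      have e3 : τ p = b := by tauto
      have e4 : τ q = b := by tauto
      exact hpf (τ.injective (e4.trans e3.symm))
    simp only [Finset.mem_insert, Finset.mem_singleton]; tauto
  obtain ⟨w, hw⟩ : ∃ w, w ∉ ({a, τ a, b, p, q} : Finset α) := by
    by_contra h
    push Not at h
    have h1 : Fintype.card α ≤ ({a, τ a, b, p, q} : Finset α).card :=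
      Finset.card_le_card (s := Finset.univ) fun x _ => h x
    have : ({a, τ a, b, p, q} : Finset α).card ≤ 5 := Finset.card_le_five
    omega
  have hw' : τ w ∉ ({a, τ a, b, p, q} : Finset α) := fun h => hw (hτ.inv w ▸ hclosed _ h)
  have hwf : τ w ≠ w := fun e => hw (hfixin w e)
  simp only [Finset.mem_insert, Finset.mem_singleton, not_or] at hw hw'
  obtain ⟨w1, w2, w3, w4, w5⟩ := hw
  obtain ⟨v1, v2, v3, v4, v5⟩ := hw'
  replace w1 : w ≠ a := w1
  replace w2 : w ≠ τ a := w2
  replace w3 : w ≠ b := w3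
  replace w4 : w ≠ p := w4
  replace w5 : w ≠ q := w5
  replace v1 : τ w ≠ a := v1
  replace v2 : τ w ≠ τ a := v2
  replace v3 : τ w ≠ b := v3
  replace v4 : τ w ≠ p := v4
  replace v5 : τ w ≠ q := v5
  have hx := hτ.prod a w ha hwf w1 w2
  have hCD : Commute (Equiv.swap a b * Equiv.swap a (τ a)) (Equiv.swap p q * Equiv.swap w (τ w)) :=
    ((swap_comm_swap hpa.symm hqa.symm hpb.symm hqb.symm).mul_right
        (swap_comm_swap w1.symm v1.symm w3.symm v3.symm)).mul_left
      ((swap_comm_swap hpa.symm hqa.symm hpa'.symm hqa'.symm).mul_right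
        (swap_comm_swap w1.symm v1.symm w2.symm v2.symm))
  have hD2 : (Equiv.swap p q * Equiv.swap w (τ w)) ^ 2 = 1 := by
    rw [Commute.mul_pow (swap_comm_swap w4.symm v4.symm w5.symm v5.symm), pow_two, pow_two,
      Equiv.swap_mul_self, Equiv.swap_mul_self, one_mul]
  refine hH.three_mem_of_mem (z := Equiv.swap a b * Equiv.swap a (τ a)) ?_ ht3 ht1
  have e : ((Equiv.swap a b * Equiv.swap p q) * (Equiv.swap a (τ a) * Equiv.swap w (τ w))) ^ 4 =
      Equiv.swap a b * Equiv.swap a (τ a) := by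
    have e1 : (Equiv.swap a b * Equiv.swap p q) * (Equiv.swap a (τ a) * Equiv.swap w (τ w)) =
        (Equiv.swap a b * Equiv.swap a (τ a)) * (Equiv.swap p q * Equiv.swap w (τ w)) := by
      rw [mul_assoc, ← mul_assoc (Equiv.swap p q), ← (swap_comm_swap hpa.symm hqa.symm hpa'.symm hqa'.symm).eq]
      simp only [mul_assoc]
    rw [e1, hCD.mul_pow, show 4 = 2 * 2 from rfl, pow_mul (Equiv.swap p q * _), hD2, one_pow, mul_one,
      show 2 * 2 = 3 + 1 from rfl, pow_succ, ht3, one_mul]
  exact e ▸ H.pow_mem (H.mul_mem hy hx) 4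

/-- An involution with at most one fixed point does not commute with a cycle of odd prime length. -/
theorem Good.not_commute {H : Subgroup (Perm α)} {τ c : Perm α} (hτ : Good H τ) (hc : c.IsCycle)
    (hodd : Odd c.support.card) : c * τ * c⁻¹ ≠ τ := by
  intro e
  have hct : ∀ x, c (τ x) = τ (c x) := fun x => by
    have := congrArg (fun g : Perm α => g (c x)) e
    simpa using this
  have hmem : ∀ x ∈ c.support, τ x ∈ c.support := fun x hx => by
    rw [mem_support] at hx ⊢
    exact fun h => hx (τ.injective (by rw [← hct, h]))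
  have hnf : ∀ x ∈ c.support, τ x ≠ x := fun x hx h => by
    rw [mem_support] at hx
    exact hx (hτ.fix _ _ (by rw [← hct, h]) h)
  have h0 : ∑ _x ∈ c.support, (1 : ZMod 2) = 0 :=
    Finset.sum_involution (fun x _ => τ x) (fun _ _ => by decide) (fun x hx _ => hnf x hx)
      (fun x hx => hmem x hx) (fun x _ => hτ.inv x)
  rw [Finset.sum_const, nsmul_eq_mul, mul_one, ZMod.natCast_eq_zero_iff_even] at h0
  exact (Nat.not_even_iff_odd.2 hodd) h0

theorem five_case {π : Set ℕ} {H : Subgroup (Perm α)} (hH : IsNearHall π H) (hn : Fintype.card α = 5)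
    (h2 : 2 ∈ π) (h5 : 5 ∈ π) : 3 ∈ π := by
  haveI : Nontrivial α := Fintype.one_lt_card_iff_nontrivial.1 (by omega)
  have hA : Nat.card (alternatingGroup α) = 60 := by
    have h := two_mul_nat_card_alternatingGroup (α := α)
    rw [Nat.card_perm, Nat.card_eq_fintype_card (α := α), hn] at h
    rw [show (5 : ℕ).factorial = 120 from rfl] at h
    omega
  obtain ⟨K, hK⟩ : ∃ K, K = H.subgroupOf (alternatingGroup α) := ⟨_, rfl⟩
  have hidx : K.index ∣ 3 := by
    have hd : K.index ∣ 20 * 3 := by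
      rw [show 20 * 3 = Nat.card (alternatingGroup α) by rw [hA]]
      exact ⟨_, K.index_mul_card.symm⟩
    refine (Nat.coprime_of_dvd fun q hq hq1 hq2 => ?_).dvd_of_dvd_mul_left hd
    have hnq : ∀ s, s.Prime → s ∈ π → ¬ s ∣ K.index := fun s hs hsπ => hK ▸ hH.hall s hs hsπ
    have : q ∣ 2 * 2 * 5 := hq2
    rcases hq.dvd_mul.1 this with h | h
    · rcases hq.dvd_mul.1 h with h | h <;>
        exact hnq 2 Nat.prime_two h2 ((Nat.prime_dvd_prime_iff_eq hq Nat.prime_two).1 h ▸ hq1)
    · exact hnq 5 Nat.prime_five h5 ((Nat.prime_dvd_prime_iff_eq hq Nat.prime_five).1 h ▸ hq1)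
  rcases (Nat.dvd_prime Nat.prime_three).1 hidx with h | h
  · apply hH.pi 3 Nat.prime_three
    rw [Subgroup.index_eq_one, hK, Subgroup.subgroupOf_eq_top] at h
    exact (show 3 ∣ Nat.card (alternatingGroup α) by rw [hA]; norm_num).trans (Subgroup.card_dvd_of_le h)
  · exfalso
    haveI := alternatingGroup.isSimpleGroup (α := α) (by rw [Nat.card_eq_fintype_card, hn])
    have hne : K.normalCore = ⊥ := by
      rcases (Subgroup.normalCore_normal K).eq_bot_or_eq_top with h' | h'
      · exact h'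
      · have hKt : K = ⊤ := top_le_iff.1 (h' ▸ K.normalCore_le)
        rw [hKt, Subgroup.index_top] at h
        omega
    rw [Subgroup.normalCore_eq_ker] at hne
    have hd := Subgroup.card_dvd_of_injective _ ((MonoidHom.ker_eq_bot_iff _).1 hne)
    rw [Nat.card_perm, ← Subgroup.index_eq_card, h, hA] at hd
    norm_num [Nat.factorial] at hd

theorem cycle_subtypePerm {c : Perm α} {U : Finset α} (hc : c.IsCycle) (hcU : c.support ⊆ U)
    (hU : ∀ x, c x ∈ U ↔ x ∈ U) :
    Perm.ofSubtype (c.subtypePerm hU) = c ∧ (c.subtypePerm hU).IsCycle ∧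
      (c.subtypePerm hU).support.card = c.support.card := by
  have h1 : Perm.ofSubtype (c.subtypePerm hU) = c :=
    ofSubtype_subtypePerm _ fun x hx => hcU (mem_support.2 hx)
  have h2 : (c.subtypePerm hU).cycleType = c.cycleType := by
    conv_rhs => rw [← h1]
    exact cycleType_ofSubtype.symm
  refine ⟨h1, ?_, by rw [← sum_cycleType, h2, sum_cycleType]⟩
  rw [← card_cycleType_eq_one, h2, card_cycleType_eq_one]
  exact hc

/-- In a group of odd order two intersecting cycles of prime length span an odd set of fewer than `r + 3`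
points. -/
theorem odd_union {π : Set ℕ} {H : Subgroup (Perm α)} (hH : IsNearHall π H) (h2 : 2 ∉ π) {c d : Perm α}
    (hc : c ∈ H) (hd : d ∈ H) (hcc : c.IsCycle) (hdc : d.IsCycle) (hr : c.support.card.Prime)
    (hs : d.support.card.Prime) (hr5 : 5 ≤ c.support.card) {a : α} (hac : a ∈ c.support) (had : a ∈ d.support) :
    Odd (c.support ∪ d.support).card ∧ (c.support ∪ d.support).card < c.support.card + 3 := by
  obtain ⟨U, hUdef⟩ : ∃ U, U = c.support ∪ d.support := ⟨_, rfl⟩
  rw [← hUdef]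
  have hcs : c.support ⊆ U := hUdef ▸ Finset.subset_union_left
  have hds : d.support ⊆ U := hUdef ▸ Finset.subset_union_right
  have hmem : ∀ e : Perm α, e.support ⊆ U → ∀ x, e x ∈ U ↔ x ∈ U := fun e he x => by
    by_cases hx : x ∈ e.support
    · exact iff_of_true (he (apply_mem_support.2 hx)) (he hx)
    · rw [notMem_support.1 hx]
  obtain ⟨c', hc'⟩ : ∃ c', c' = c.subtypePerm (hmem c hcs) := ⟨_, rfl⟩
  obtain ⟨d', hd'⟩ : ∃ d', d' = d.subtypePerm (hmem d hds) := ⟨_, rfl⟩
  obtain ⟨hcO, hcC, hcN⟩ := cycle_subtypePerm hcc hcs (hmem c hcs)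
  obtain ⟨hdO, hdC, hdN⟩ := cycle_subtypePerm hdc hds (hmem d hds)
  rw [← hc'] at hcO hcC hcN
  rw [← hd'] at hdO hdC hdN
  obtain ⟨K, hK⟩ : ∃ K, K = Subgroup.closure ({c', d'} : Set (Perm {x // x ∈ U})) := ⟨_, rfl⟩
  have hcK : c' ∈ K := hK ▸ Subgroup.subset_closure (by simp)
  have hdK : d' ∈ K := hK ▸ Subgroup.subset_closure (by simp)
  have hKH : K.map (Perm.ofSubtype : Perm {x // x ∈ U} →* Perm α) ≤ H := by
    rw [hK, MonoidHom.map_closure, Subgroup.closure_le]
    rintro _ ⟨e, he, rfl⟩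
    rcases he with rfl | rfl
    · rwa [SetLike.mem_coe, hcO]
    · rwa [SetLike.mem_coe, hdO]
  have hKodd : ¬ 2 ∣ Nat.card K := fun h => h2 (hH.pi 2 Nat.prime_two (by
    rw [← Subgroup.card_map_of_injective (f := (Perm.ofSubtype : Perm {x // x ∈ U} →* Perm α))
      ofSubtype_injective] at h
    exact h.trans (Subgroup.card_dvd_of_le hKH)))
  have haU : a ∈ U := hcs hac
  have hca : c' ⟨a, haU⟩ ≠ ⟨a, haU⟩ := fun e => mem_support.1 hac (by
    rw [hc'] at e; simpa using congrArg Subtype.val e)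
  have hda : d' ⟨a, haU⟩ ≠ ⟨a, haU⟩ := fun e => mem_support.1 had (by
    rw [hd'] at e; simpa using congrArg Subtype.val e)
  haveI htr : MulAction.IsPretransitive K {x // x ∈ U} := by
    rw [MulAction.isPretransitive_iff_base ⟨a, haU⟩]
    rintro ⟨y, hy⟩
    rcases Finset.mem_union.1 (hUdef ▸ hy) with hy' | hy'
    · obtain ⟨i, hi⟩ := hcC.exists_pow_eq hca (y := ⟨y, hy⟩) (fun e => mem_support.1 hy' (by
        rw [hc'] at e; simpa using congrArg Subtype.val e))
      exact ⟨⟨c' ^ i, K.pow_mem hcK i⟩, hi⟩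
    · obtain ⟨i, hi⟩ := hdC.exists_pow_eq hda (y := ⟨y, hy⟩) (fun e => mem_support.1 hy' (by
        rw [hd'] at e; simpa using congrArg Subtype.val e))
      exact ⟨⟨d' ^ i, K.pow_mem hdK i⟩, hi⟩
  constructor
  · rw [← Nat.not_even_iff_odd, even_iff_two_dvd]
    intro h
    apply hKodd
    have h1 := MulAction.index_stabilizer_of_transitive K (⟨a, haU⟩ : {x // x ∈ U})
    rw [Nat.card_eq_fintype_card (α := {x // x ∈ U}), Fintype.card_coe] at h1
    exact (h1 ▸ h).trans ⟨_, (MulAction.stabilizer K (⟨a, haU⟩ : {x // x ∈ U})).index_mul_card.symm⟩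
  · by_contra hbig
    apply hKodd
    have hcardU : Fintype.card {x // x ∈ U} = U.card := Fintype.card_coe U
    have hprim : MulAction.IsPreprimitive K {x // x ∈ U} := by
      refine MulAction.IsPreprimitive.of_isTrivialBlock_base ⟨a, haU⟩ fun {B} haB hB => ?_
      by_cases hsub : B.Subsingleton
      · exact Or.inl hsub
      right
      have hfixB : ∀ e : Perm {x // x ∈ U}, e ∈ K → e ⟨a, haU⟩ ∈ B → ∀ x ∈ B, e x ∈ B := by
        intro e he hea x hx
        rcases MulAction.isBlock_iff_smul_eq_or_disjoint.1 hB (⟨e, he⟩ : K) with h | h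
        · rw [← h]
          exact Set.smul_mem_smul_set hx
        · exact absurd hea (Set.disjoint_left.1 h (Set.smul_mem_smul_set (a := (⟨e, he⟩ : K)) haB))
      -- the base point is moved into `B` by each of the two generators
      have hgen : ∀ e e' : Perm {x // x ∈ U}, e ∈ K → e' ∈ K → e.IsCycle → e'.IsCycle → e.support.card.Prime →
          e ⟨a, haU⟩ ≠ ⟨a, haU⟩ → e' ⟨a, haU⟩ ≠ ⟨a, haU⟩ → (∀ y, e y ≠ y ∨ e' y ≠ y) →
          e ⟨a, haU⟩ ∈ B := by
        intro e e' he he' hec he'c hep hea he'a hcov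
        by_contra hnot
        -- all points of `B` are moved by `e`
        obtain ⟨b, hbB, hba⟩ : ∃ b ∈ B, b ≠ (⟨a, haU⟩ : {x // x ∈ U}) := by
          by_contra hh
          push Not at hh
          exact hsub fun x hx y hy => (hh x hx).trans (hh y hy).symm
        by_cases hb : e b = b
        · apply hnot
          rcases MulAction.isBlock_iff_smul_eq_or_disjoint.1 hB (⟨e, he⟩ : K) with h | h
          · rw [← h]; exact Set.smul_mem_smul_set haB
          · have h' := Set.smul_mem_smul_set (a := (⟨e, he⟩ : K)) hbB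
            rw [show (⟨e, he⟩ : K) • b = b from hb] at h'
            exact absurd hbB (Set.disjoint_left.1 h h')
        obtain ⟨i, hi⟩ := hec.exists_pow_eq hea hb
        apply hnot
        refine prime_cycle_one (c := e) hep (by rw [← hec.orderOf, pow_orderOf_eq_one]) (· ∈ B) ?_
          (i := i) (by rw [hi]; exact hba) (by rw [hi]; exact hbB)
        intro i j hi hj
        rw [pow_add, Perm.mul_apply]
        exact hfixB (e ^ i) (K.pow_mem he i) hi _ hj
      have hcov : ∀ y : {x // x ∈ U}, c' y ≠ y ∨ d' y ≠ y := by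
        rintro ⟨y, hy⟩
        rcases Finset.mem_union.1 (hUdef ▸ hy) with hy' | hy'
        · exact Or.inl fun e => mem_support.1 hy' (by rw [hc'] at e; simpa using congrArg Subtype.val e)
        · exact Or.inr fun e => mem_support.1 hy' (by rw [hd'] at e; simpa using congrArg Subtype.val e)
      have hcB := hfixB c' hcK (hgen c' d' hcK hdK hcC hdC (hcN ▸ hr) hca hda hcov)
      have hdB := hfixB d' hdK (hgen d' c' hdK hcK hdC hcC (hdN ▸ hs) hda hca fun y => (hcov y).symm)
      refine Set.eq_univ_of_forall fun y => ?_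
      obtain ⟨⟨g, hg⟩, hgy⟩ := MulAction.exists_smul_eq K (⟨a, haU⟩ : {x // x ∈ U}) y
      rw [← hgy]
      show g ⟨a, haU⟩ ∈ B
      clear hgy
      have hall : ∀ x ∈ B, g x ∈ B := by
        rw [hK] at hg
        induction hg using Subgroup.closure_induction with
        | mem e he => rcases he with rfl | rfl <;> assumption
        | one => exact fun x hx => hx
        | mul g g' _ _ h1 h2 => exact fun x hx => h1 _ (h2 x hx)
        | inv g _ h1 =>
          intro x hx
          have hbij : Set.SurjOn g B B :=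
            ((Set.toFinite B).injOn_iff_bijOn_of_mapsTo h1).1 g.injective.injOn |>.surjOn
          obtain ⟨z, hz, hzx⟩ := hbij hx
          rw [← hzx, ← Perm.mul_apply, inv_mul_cancel, Perm.one_apply]
          exact hz
      exact hall _ haB
    have hU5 : 5 ≤ Fintype.card {x // x ∈ U} := by
      rw [hcardU]; exact hr5.trans (Finset.card_le_card hcs)
    have hle := Cfsg.Agent.S0713.result K hprim (p := c.support.card) hr hU5
      (by rw [hcardU]; omega) hcC hcN hcK
    haveI : Nontrivial {x // x ∈ U} := Fintype.one_lt_card_iff_nontrivial.1 (by omega)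
    refine dvd_trans ?_ (Subgroup.card_dvd_of_le hle)
    obtain ⟨m, hm⟩ : 4 ∣ (Fintype.card {x // x ∈ U}).factorial :=
      Nat.dvd_factorial (by norm_num) (by omega)
    have h := two_mul_nat_card_alternatingGroup (α := {x // x ∈ U})
    rw [Nat.card_perm, Nat.card_eq_fintype_card (α := {x // x ∈ U}), hm] at h
    exact ⟨m, by omega⟩

theorem IsNearHall.three_mem {π : Set ℕ} {H : Subgroup (Perm α)} (hH : IsNearHall π H)
    (h2p : ∃ r s : ℕ, r.Prime ∧ s.Prime ∧ r ≠ s ∧ r ∈ π ∧ s ∈ π ∧ r ≤ Fintype.card α ∧ s ≤ Fintype.card α) :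
    3 ∈ π := by
  by_contra h3
  obtain ⟨r0, s0, hr0, hs0, hne, hr0π, hs0π, hr0n, hs0n⟩ := h2p
  have h5 : ∀ q : ℕ, q.Prime → q ∈ π → q ≠ 2 → 5 ≤ q := fun q hq hqπ hq2 => by
    by_contra hlt
    have := hq.two_le
    interval_cases q <;> first | exact h3 hqπ | exact hq2 rfl | exact absurd hq (by norm_num)
  by_cases h2 : 2 ∈ π
  · obtain ⟨r, hr, hrπ, hr2, hrn⟩ : ∃ r : ℕ, r.Prime ∧ r ∈ π ∧ r ≠ 2 ∧ r ≤ Fintype.card α := by
      by_cases e : r0 = 2
      · exact ⟨s0, hs0, hs0π, fun e' => hne (by rw [e, e']), hs0n⟩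
      · exact ⟨r0, hr0, hr0π, e, hr0n⟩
    have hr5 := h5 r hr hrπ hr2
    rcases eq_or_lt_of_le (show 5 ≤ Fintype.card α by omega) with h | h
    · obtain rfl : r = 5 := by omega
      exact h3 (five_case hH h.symm h2 hrπ)
    obtain ⟨τ, hτ⟩ := hH.exists_good h2
    obtain ⟨S, hS, -, hSc⟩ := hH.exists_cycles hr hrπ hr2
    obtain ⟨s, hsS⟩ : S.Nonempty := Finset.card_pos.1 (by rw [hSc]; exact Nat.div_pos hrn hr.pos)
    obtain ⟨hsc, c, hc, hcc, hcs⟩ := hS s hsS
    exact h3 (three_of_good_ne hH h hτ (hτ.conj hc)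
      (hτ.not_commute hcc (by rw [hcs, hsc]; exact hr.odd_of_ne_two hr2)))
  · obtain ⟨r, s, hr, hs, hrs, hrπ, hsπ, hsn⟩ : ∃ r s : ℕ, r.Prime ∧ s.Prime ∧ r < s ∧ r ∈ π ∧ s ∈ π ∧
        s ≤ Fintype.card α := by
      rcases Nat.lt_or_gt_of_ne hne with h | h
      · exact ⟨r0, s0, hr0, hs0, h, hr0π, hs0π, hs0n⟩
      · exact ⟨s0, r0, hs0, hr0, h, hs0π, hr0π, hr0n⟩
    have hr2 : r ≠ 2 := fun e => h2 (e ▸ hrπ)
    have hs2 : s ≠ 2 := fun e => h2 (e ▸ hsπ)
    have hr5 := h5 r hr hrπ hr2
    obtain ⟨S, hS, hSd, hSc⟩ := hH.exists_cycles hr hrπ hr2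
    obtain ⟨T, hT, -, hTc⟩ := hH.exists_cycles hs hsπ hs2
    obtain ⟨t, htT⟩ : T.Nonempty := Finset.card_pos.1 (by rw [hTc]; exact Nat.div_pos hsn hs.pos)
    obtain ⟨htc, d, hd, hdc, hdt⟩ := hT t htT
    subst hdt
    obtain ⟨a, had, u, huS, hau⟩ : ∃ a ∈ d.support, ∃ u ∈ S, a ∈ u := by
      by_contra h
      push Not at h
      have hdis : _root_.Disjoint d.support (S.biUnion id) := Finset.disjoint_left.2 fun x hx hx' => by
        obtain ⟨u, hu, hxu⟩ := Finset.mem_biUnion.1 hx'
        exact h x hx u hu hxu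
      have h1 := (Finset.card_union_of_disjoint hdis).symm.trans_le (Finset.card_le_univ _)
      rw [card_biUnion_cycles (fun s hs => (hS s hs).1) hSd hSc, htc] at h1
      have h2 := Nat.div_add_mod (Fintype.card α) r
      have h3 := Nat.mod_lt (Fintype.card α) hr.pos
      rw [mul_comm r] at h2
      omega
    obtain ⟨huc, c, hc, hcc, hcu⟩ := hS u huS
    subst hcu
    obtain ⟨hodd, hlt⟩ := odd_union hH h2 hc hd hcc hdc (huc ▸ hr) (htc ▸ hs) (huc ▸ hr5) hau had
    have hsub : c.support ⊆ d.support ∧ s = r + 2 := by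
      have h1 := Finset.card_le_card (Finset.subset_union_right (s₁ := c.support) (s₂ := d.support))
      have hs' : Odd s := hs.odd_of_ne_two hs2
      have hr' : Odd r := hr.odd_of_ne_two hr2
      obtain ⟨i, hi⟩ := hs'
      obtain ⟨j, hj⟩ := hr'
      rw [htc] at h1
      rw [huc] at hlt
      have h2 : (c.support ∪ d.support).card = d.support.card := by rw [htc]; omega
      refine ⟨?_, by omega⟩
      have := Finset.eq_of_subset_of_card_le (Finset.subset_union_right (s₁ := c.support)) h2.le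
      rw [this]; exact Finset.subset_union_left
    obtain ⟨hsubT, hs_eq⟩ := hsub
    obtain ⟨x, y, hxy, hT2⟩ := Finset.card_eq_two.1
      (show (d.support \ c.support).card = 2 by rw [Finset.card_sdiff_of_subset hsubT, htc, huc]; omega)
    have hxT : x ∈ d.support \ c.support := by rw [hT2]; simp
    have hyT : y ∈ d.support \ c.support := by rw [hT2]; simp
    rw [Finset.mem_sdiff] at hxT hyT
    obtain ⟨i, hi⟩ := hdc.exists_pow_eq (mem_support.1 hxT.1) (mem_support.1 hyT.1)
    have hord : orderOf d = s := by rw [hdc.orderOf, htc]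
    have hyx : (d ^ i) y ≠ x := fun e => by
      have h2i : (d ^ (2 * i)) x = x := by rw [two_mul, pow_add, Perm.mul_apply, hi, e]
      have hsi : s ∣ i := by
        by_contra hcon
        have hcop : Nat.Coprime (2 * i) s :=
          ((hs.coprime_iff_not_dvd.2 fun h => by
              rcases hs.dvd_mul.1 h with h | h
              · exact hs2 ((Nat.prime_dvd_prime_iff_eq hs Nat.prime_two).1 h)
              · exact hcon h)).symm
        obtain ⟨m, hm⟩ := Nat.exists_mul_mod_eq_one_of_coprime hcop hs.one_lt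
        have : (d ^ (2 * i * m)) x = x := by
          rw [pow_mul]
          exact Function.IsFixedPt.perm_pow h2i m
        rw [← pow_mod_orderOf, hord, hm.2, pow_one] at this
        exact mem_support.1 hxT.1 this
      rw [← pow_mod_orderOf, hord, Nat.mod_eq_zero_of_dvd hsi, pow_zero, Perm.one_apply] at hi
      exact hxy hi
    obtain ⟨g, hg⟩ : ∃ g, g = d ^ i := ⟨_, rfl⟩
    rw [← hg] at hi hyx
    have hgT : ∀ z, g z ∈ d.support ↔ z ∈ d.support := fun z => by rw [hg]; exact pow_apply_mem_support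
    have hg' : ∀ z, z ∈ (g * c * g⁻¹).support ↔ z ∈ d.support ∧ z ≠ y ∧ z ≠ g y := by
      intro z
      obtain ⟨w, rfl⟩ := g.surjective z
      rw [support_conj, Finset.mem_map_equiv, Equiv.symm_apply_apply, hgT, ← hi,
        g.injective.ne_iff, g.injective.ne_iff]
      constructor
      · intro hw
        exact ⟨hsubT hw, fun e => hxT.2 (e ▸ hw), fun e => hyT.2 ((e.trans hi) ▸ hw)⟩
      · rintro ⟨hw, hwx, hwy⟩
        by_contra hwc
        have : w ∈ d.support \ c.support := Finset.mem_sdiff.2 ⟨hw, hwc⟩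
        rw [hT2] at this
        simp only [Finset.mem_insert, Finset.mem_singleton] at this
        rcases this with e | e
        · exact hwx e
        · exact hwy (e.trans hi.symm)
    have hgy : g y ≠ y := fun e => hxy (g.injective (hi.trans e.symm))
    have hU : c.support ∪ (g * c * g⁻¹).support = d.support.erase y := by
      ext z
      rw [Finset.mem_union, Finset.mem_erase, hg']
      constructor
      · rintro (hz | ⟨hz, hzy, -⟩)
        · exact ⟨fun e => hyT.2 (e ▸ hz), hsubT hz⟩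
        · exact ⟨hzy, hz⟩
      · rintro ⟨hzy, hz⟩
        by_cases hzg : z = g y
        · left
          by_contra hzc
          have : z ∈ d.support \ c.support := Finset.mem_sdiff.2 ⟨hz, hzc⟩
          rw [hT2] at this
          simp only [Finset.mem_insert, Finset.mem_singleton] at this
          rcases this with e | e
          · exact hyx (hzg.symm.trans e)
          · exact hzy e
        · exact Or.inr ⟨hz, hzy, hzg⟩
    obtain ⟨b, hbc, hbg⟩ : ∃ b ∈ c.support, b ∈ (g * c * g⁻¹).support := by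
      by_contra hh
      push Not at hh
      have h1 := Finset.card_union_of_disjoint (Finset.disjoint_left.2 hh)
      rw [hU, Finset.card_erase_of_mem hyT.1, card_support_conj, htc, huc] at h1
      omega
    have hgH : g * c * g⁻¹ ∈ H := hg ▸ H.mul_mem (H.mul_mem (H.pow_mem hd i) hc) (H.inv_mem (H.pow_mem hd i))
    obtain ⟨hodd', -⟩ := odd_union hH h2 hc hgH hcc hcc.conj (huc ▸ hr)
      (by rw [card_support_conj, huc]; exact hr) (huc ▸ hr5) hbc hbg
    rw [hU, Finset.card_erase_of_mem hyT.1, htc, hs_eq] at hodd'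
    obtain ⟨k, hk⟩ := hodd'
    obtain ⟨j, hj⟩ := hr.odd_of_ne_two hr2
    omega

end CfsgLib.Perm.Groups.HallSym
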