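import Cfsg.Agent.Lib.Perm.Groups.HallSym.Shapes

/-!
`π`-subgroups of alternating groups lying in no Hall `π`-subgroup (failure of the full Sylow analogue).
-/

set_option autoImplicit false
set_option linter.unusedSectionVars false

namespace CfsgLib.Perm.Groups.HallSym

open Equiv Equiv.Perm

/-- A subgroup with small primes whose even elements preserve no `c`-set. -/
def HasWitness (n p c : ℕ) : Prop :=
  ∃ T : Subgroup (Perm (Fin n)), (∀ q : ℕ, q.Prime → q ∣ Nat.card T → q < p) ∧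
    ∀ C : Finset (Fin n), C.card = c → ∃ g ∈ T, Perm.sign g = 1 ∧ g ∉ setStab C

theorem sign_cyc {α : Type*} [Fintype α] [DecidableEq α] {a b u : α} (hab : a ≠ b) (hbu : b ≠ u) :
    Perm.sign (cyc a b u) = 1 := by
  rw [cyc, Perm.sign_mul, sign_swap hab, sign_swap hbu]; decide

theorem witness_prime {p : ℕ} (hp : p.Prime) (hp5 : 5 ≤ p) : HasWitness p p 1 := by
  obtain ⟨U, -, hU⟩ := Finset.exists_subset_card_eq (s := (Finset.univ : Finset (Fin p))) (n := 3) (by simp; omega)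
  refine ⟨labStab (memF U), fun q hq hd => ?_, fun C hC => ?_⟩
  · rw [card_labStab_memF, hU, Fintype.card_fin] at hd
    rcases (Nat.Prime.dvd_mul hq).1 hd with h | h <;> (have := (Nat.Prime.dvd_factorial hq).1 h; omega)
  · obtain ⟨a, rfl⟩ := Finset.card_eq_one.1 hC
    have key : ∀ g : Perm (Fin p), g ∈ setStab {a} → g a = a := fun g hg => by
      have := setStab_invariant (by simp; omega) hg a
      simpa using this
    by_cases ha : a ∈ U
    · obtain ⟨b, hb, hba⟩ := Finset.exists_mem_ne (show 1 < U.card by omega) a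
      obtain ⟨u, hu⟩ : (U \ {a, b}).Nonempty := Finset.card_pos.1 (by
        have h1 := Finset.le_card_sdiff {a, b} U
        have h2 : ({a, b} : Finset (Fin p)).card ≤ 2 := Finset.card_le_two
        omega)
      simp only [Finset.mem_sdiff, Finset.mem_insert, Finset.mem_singleton, not_or] at hu
      refine ⟨cyc a b u, mem_labStab.2 fun x => ?_, sign_cyc hba.symm (Ne.symm hu.2.2), fun hg => hba ?_⟩
      · by_cases hxa : x = a
        · subst hxa; simp [memF, cyc_apply_left hba.symm (Ne.symm hu.2.1), ha, hb]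
        by_cases hxb : x = b
        · subst hxb; simp [memF, cyc_apply_mid (Ne.symm hu.2.1) (Ne.symm hu.2.2), hb, hu.1]
        by_cases hxu : x = u
        · subst hxu; simp [memF, cyc_apply_right, ha, hu.1]
        · rw [cyc_apply_other hxa hxb hxu]
      · have := key _ hg
        rwa [cyc_apply_left hba.symm (Ne.symm hu.2.1)] at this
    · obtain ⟨b, hb, hba⟩ := Finset.exists_mem_ne
        (show 1 < Uᶜ.card by rw [Finset.card_compl, hU, Fintype.card_fin]; omega) a
      rw [Finset.mem_compl] at hb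
      obtain ⟨u, hu, v, hv, huv⟩ := Finset.one_lt_card.1 (show 1 < U.card by omega)
      refine ⟨Equiv.swap a b * Equiv.swap u v, (labStab (memF U)).mul_mem
        (swap_mem_labStab (by simp [memF, ha, hb])) (swap_mem_labStab (by simp [memF, hu, hv])), ?_, fun hg => hba ?_⟩
      · rw [Perm.sign_mul, sign_swap hba.symm, sign_swap huv]; decide
      · have := key _ hg
        rwa [Perm.mul_apply, Equiv.swap_apply_of_ne_of_ne (a := u) (b := v) (x := a) (fun e => ha (e ▸ hu))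
          (fun e => ha (e ▸ hv)), Equiv.swap_apply_left] at this

theorem card_labPermStab_id_dvd {n : ℕ} (f : Fin n → Fin 3) :
    Nat.card (labPermStab f (MonoidHom.id (Perm (Fin 3)))) ∣
      6 * ∏ i, (Finset.univ.filter (fun x => f x = i)).card.factorial := by
  have := card_labPermStab_dvd f (MonoidHom.id (Perm (Fin 3)))
  rwa [card_labStab, Nat.card_perm, Nat.card_eq_fintype_card (α := Fin 3), Fintype.card_fin] at this

theorem witness_seven : HasWitness 7 5 3 := by
  refine ⟨labPermStab (![0, 0, 0, 1, 1, 1, 2] : Fin 7 → Fin 3) (MonoidHom.id _), fun q hq hd => ?_,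
    fun C hC => ?_⟩
  · have h : q ∣ 6 * (Nat.factorial 3 * Nat.factorial 3 * Nat.factorial 1) := hd.trans (by
      refine (card_labPermStab_id_dvd _).trans (dvd_of_eq ?_)
      rw [Fin.prod_univ_three]
      all_goals rfl)
    rcases (Nat.Prime.dvd_mul hq).1 h with h | h
    · have h' := Nat.le_of_dvd (by norm_num) h
      by_contra h5
      interval_cases q <;> revert h hq <;> norm_num
    rcases (Nat.Prime.dvd_mul hq).1 h with h | h
    · rcases (Nat.Prime.dvd_mul hq).1 h with h | h <;> (have := (Nat.Prime.dvd_factorial hq).1 h; omega)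
    · have := (Nat.Prime.dvd_factorial hq).1 h; omega
  · have key : ∀ C ∈ (Finset.univ : Finset (Fin 7)).powersetCard 3,
        ¬ ((∀ x : Fin 7, cyc (0 : Fin 7) 1 2 x ∈ C ↔ x ∈ C) ∧
          (∀ x : Fin 7, cyc (3 : Fin 7) 4 5 x ∈ C ↔ x ∈ C) ∧
          ∀ x : Fin 7, ((Equiv.swap (0 : Fin 7) 3 * Equiv.swap 1 4 * Equiv.swap 2 5 * Equiv.swap 0 1 : Perm (Fin 7)) : Fin 7 → Fin 7) x ∈ C ↔
            x ∈ C) := by decide +kernel
    have h := key C (Finset.mem_powersetCard.2 ⟨Finset.subset_univ _, hC⟩)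
    by_contra hall
    push Not at hall
    have hinv := fun g hg hs x => setStab_invariant (by simp [hC]) (hall g hg hs) x
    exact h ⟨hinv (cyc (0 : Fin 7) 1 2) ⟨1, by decide⟩ (by decide),
      hinv (cyc (3 : Fin 7) 4 5) ⟨1, by decide⟩ (by decide),
      hinv (Equiv.swap (0 : Fin 7) 3 * Equiv.swap 1 4 * Equiv.swap 2 5 * Equiv.swap 0 1) ⟨Equiv.swap 0 1, by decide⟩ (by decide)⟩

theorem witness_eight : HasWitness 8 5 4 := by
  refine ⟨labPermStab (![0, 0, 0, 1, 1, 1, 2, 2] : Fin 8 → Fin 3) (MonoidHom.id _), fun q hq hd => ?_,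
    fun C hC => ?_⟩
  · have h : q ∣ 6 * (Nat.factorial 3 * Nat.factorial 3 * Nat.factorial 2) := hd.trans (by
      refine (card_labPermStab_id_dvd _).trans (dvd_of_eq ?_)
      rw [Fin.prod_univ_three]
      all_goals rfl)
    rcases (Nat.Prime.dvd_mul hq).1 h with h | h
    · have h' := Nat.le_of_dvd (by norm_num) h
      by_contra h5
      interval_cases q <;> revert h hq <;> norm_num
    rcases (Nat.Prime.dvd_mul hq).1 h with h | h
    · rcases (Nat.Prime.dvd_mul hq).1 h with h | h <;> (have := (Nat.Prime.dvd_factorial hq).1 h; omega)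
    · have := (Nat.Prime.dvd_factorial hq).1 h; omega
  · have key : ∀ C ∈ (Finset.univ : Finset (Fin 8)).powersetCard 4,
        ¬ (((∀ x : Fin 8, cyc (0 : Fin 8) 1 2 x ∈ C ↔ x ∈ C) ∨ ∀ x : Fin 8, cyc (0 : Fin 8) 1 2 x ∈ C ↔ x ∉ C) ∧
          ((∀ x : Fin 8, cyc (3 : Fin 8) 4 5 x ∈ C ↔ x ∈ C) ∨ ∀ x : Fin 8, cyc (3 : Fin 8) 4 5 x ∈ C ↔ x ∉ C) ∧
          ((∀ x : Fin 8, ((Equiv.swap (6 : Fin 8) 7 * Equiv.swap 0 1 : Perm (Fin 8)) : Fin 8 → Fin 8) x ∈ C ↔ x ∈ C) ∨
            ∀ x : Fin 8, ((Equiv.swap (6 : Fin 8) 7 * Equiv.swap 0 1 : Perm (Fin 8)) : Fin 8 → Fin 8) x ∈ C ↔ x ∉ C)) := by decide +kernel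
    have h := key C (Finset.mem_powersetCard.2 ⟨Finset.subset_univ _, hC⟩)
    by_contra hall
    push Not at hall
    have hinv := fun g hg hs => mem_setStab.1 (hall g hg hs)
    exact h ⟨hinv (cyc (0 : Fin 8) 1 2) ⟨1, by decide⟩ (by decide),
      hinv (cyc (3 : Fin 8) 4 5) ⟨1, by decide⟩ (by decide),
      hinv (Equiv.swap (6 : Fin 8) 7 * Equiv.swap 0 1) ⟨1, by decide⟩ (by decide)⟩

theorem hasWitness {n p c : ℕ} (h : ShapeData n p c) : HasWitness n p c := by
  obtain ⟨hp, hp5, -, hc⟩ := h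
  rcases hc with ⟨rfl, rfl⟩ | ⟨rfl, rfl, rfl⟩ | ⟨rfl, rfl, rfl⟩
  · exact witness_prime hp hp5
  · exact witness_seven
  · exact witness_eight

theorem not_dPi_alt {n : ℕ} (hn : 5 ≤ n) {π : Set ℕ}
    (h2p : ∃ r s : ℕ, r.Prime ∧ s.Prime ∧ r ≠ s ∧ r ∈ π ∧ s ∈ π ∧ r ≤ n ∧ s ≤ n)
    (hns : ∃ r : ℕ, r.Prime ∧ r ≤ n ∧ r ∉ π) : ¬ Cfsg.IsDPiGroup π (alternatingGroup (Fin n)) := by
  intro hD
  haveI : Nontrivial (Fin n) := Fin.nontrivial_iff_two_le.2 (by omega)
  have hcl : ∀ K : Subgroup (alternatingGroup (Fin n)), Cfsg.IsPiSubgroup π K →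
      ∃ p c : ℕ, ShapeData n p c ∧ (∀ q : ℕ, q.Prime → q ≤ n → (q ∈ π ↔ q < p)) ∧
        ∃ C : Finset (Fin n), C.card = c ∧ K.map (alternatingGroup (Fin n)).subtype ≤ setStab C := by
    intro K hK
    obtain ⟨M, hKM, hM⟩ := exists_maximal_pi hK
    obtain ⟨p, c, hS, hπ, C, hC, hle⟩ := classify' (isNearHall_map_subtype (isPiHall_of_maximal hD hM))
      (by simpa using h2p) (by simpa using hns)
    rw [Fintype.card_fin] at hS hπ
    exact ⟨p, c, hS, hπ, C, hC, (Subgroup.map_mono hKM).trans hle⟩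
  have hbot : Cfsg.IsPiSubgroup π (⊥ : Subgroup (alternatingGroup (Fin n))) := fun q hq hd => by
    rw [Subgroup.card_bot] at hd
    exact absurd (Nat.eq_one_of_dvd_one hd) hq.one_lt.ne'
  obtain ⟨p, c, hS, hπ, -⟩ := hcl ⊥ hbot
  obtain ⟨T, hT, hTC⟩ := hasWitness hS
  have hT' : Cfsg.IsPiSubgroup π (T.subgroupOf (alternatingGroup (Fin n))) := fun q hq hd => by
    have h1 : q ≤ n := by
      simpa using prime_le_of_dvd_alt hq (hd.trans (Subgroup.card_subgroup_dvd_card _))
    refine (hπ q hq h1).2 (hT q hq (hd.trans ?_))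
    rw [← Subgroup.card_map_of_injective (alternatingGroup (Fin n)).subtype_injective,
      Subgroup.subgroupOf_map_subtype]
    exact Subgroup.card_dvd_of_le inf_le_left
  obtain ⟨p', c', hS', hπ', C, hC, hle⟩ := hcl _ hT'
  obtain ⟨rfl, rfl⟩ := shape_unique hS hS' hπ hπ'
  obtain ⟨g, hg, hgs, hgC⟩ := hTC C hC
  rw [Subgroup.subgroupOf_map_subtype] at hle
  exact hgC (hle ⟨hg, Equiv.Perm.mem_alternatingGroup.2 hgs⟩)

end CfsgLib.Perm.Groups.HallSym
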